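import Groth.Prelude.Def_SSMod

/-!
# Curves with étale multisections over an open set; S15277 as a proposition
-/

set_option autoImplicit false
universe u

open CategoryTheory CategoryTheory.Limits AlgebraicGeometry

namespace K153.TreeCurve

/-- `π : X ⟶ B` is, over the nonempty open `U`, a smooth curve with the étale multisection `D`. -/
structure PreCurve {B X D : Scheme.{u}} (π : X ⟶ B) (i : D ⟶ X) (U : B.Opens) : Prop where
  dom : IsDominant π
  closed : IsClosedImmersion i
  nonempty : (U : Set B).Nonempty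
  smooth : Smooth (π ∣_ U)
  rel : Cyc.HasRelDim (π ∣_ U) 1
  etale : Etale ((i ≫ π) ∣_ U)

/-- S15277 as a proposition. -/
def H15277 : Prop :=
  ∀ {S C D : Scheme.{u}} [IsIntegral S] [CompactSpace S] [QuasiSeparatedSpace S]
    (φ : C ⟶ S) (i : D ⟶ C) (_ : SSMod.IsMPCurve φ i)
    (_ : SSMod.IsSemistable (pullback.snd φ (S.fromSpecStalk (genericPoint S)))
      (CInt.baseChangeOver i φ (S.fromSpecStalk (genericPoint S)))),
    ∃ (S' : Scheme.{u}) (_ : IsIntegral S') (g : S' ⟶ S) (V : S.Opens),
      Curv2.IsAlteration g ∧ (V : Set S).Nonempty ∧ Etale (g ∣_ V) ∧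
      ∃ (C' D' : Scheme.{u}) (i' : D' ⟶ C') (fC : C' ⟶ pullback φ g) (fD : D' ⟶ pullback (i ≫ φ) g),
        SSMod.IsStableModification (pullback.snd φ g) (CInt.baseChangeOver i φ g) i' fC fD ∧
        SSMod.IsEtaIso (pullback.snd φ g) fC ∧
        SSMod.IsEtaIso (CInt.baseChangeOver i φ g ≫ pullback.snd φ g) fD

end K153.TreeCurve
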