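import Mathlib.RingTheory.Smooth.Basic
import Mathlib.RingTheory.Etale.Basic
import Mathlib.RingTheory.KrullDimension.Basic
import Mathlib.RingTheory.Localization.FractionRing
import Mathlib.FieldTheory.IsAlgClosed.Basic

/-!
# The algebraic half of node FIB
-/

set_option autoImplicit false
universe u

open scoped TensorProduct

namespace K153.FibDef

/-- The algebraic half of FIB: after a finite extension `R ⊆ R'`, the domain `R'` is a curve over a domain `B`, with
smooth generic fibre, and over the generic point of `B` the zeros of `a` lie on an étale subscheme `V(I)`. -/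
def ALG (K : Type u) [Field K] : Prop :=
  ∀ (R : Type u) [CommRing R] [IsDomain R] [Algebra K R] [Algebra.FiniteType K R] (d : ℕ)
    (_ : ringKrullDim R = ((d + 1 : ℕ) : WithBot ℕ∞)) (a : R) (_ : a ≠ 0),
    ∃ (B R' : Type u) (_ : CommRing B) (_ : IsDomain B) (_ : Algebra K B) (_ : CommRing R') (_ : IsDomain R')
      (_ : Algebra K R') (_ : Algebra R R') (_ : IsScalarTower K R R') (_ : Algebra B R') (_ : IsScalarTower K B R')
      (I : Ideal R'), Algebra.FiniteType K B ∧ ringKrullDim B = (d : WithBot ℕ∞) ∧ Module.Finite R R' ∧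
        Function.Injective (algebraMap R R') ∧ Function.Injective (algebraMap B R') ∧
        Algebra.Smooth (FractionRing B) (FractionRing B ⊗[B] R') ∧
        ringKrullDim (FractionRing B ⊗[B] R') = 1 ∧
        Algebra.Etale (FractionRing B) (FractionRing B ⊗[B] (R' ⧸ I)) ∧
        ∀ x ∈ I, ∃ (b : B) (N : ℕ) (r : R'), b ≠ 0 ∧ algebraMap B R' b * x ^ N = algebraMap R R' a * r

end K153.FibDef
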