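import Groth.Agent.EtAcyc.K153.STreeBasic

/-!
# Strong certificates étale locally near a point of a curve
-/

set_option autoImplicit false
universe u

open CategoryTheory CategoryTheory.Limits AlgebraicGeometry

namespace K153.LocDef

open K153.TreeDef K153.STreeBasic

/-- Near `x`, étale locally, all open subsets containing the complement of `Z` over the complement of
`∏ z_k = 0` have a strong certificate. -/
def LocAt {R : Type u} [CommRing R] {ι : Type} (z : ι → R) {C : Scheme.{u}}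
    (π : C ⟶ Spec (CommRingCat.of R)) (Z : Set C) (x : C) : Prop :=
  ∃ (Y : Scheme.{u}) (g : Y ⟶ C), Etale g ∧ QuasiCompact g ∧ x ∈ Set.range g ∧
    ∀ V : Y.Opens, (∀ y : Y, (∀ k, z k ∉ (π (g y)).asIdeal) → g y ∉ Z → y ∈ V) → STree Y V

theorem stree_of_locAt {R : Type u} [CommRing R] {ι : Type} {z : ι → R} {C : Scheme.{u}}
    {π : C ⟶ Spec (CommRingCat.of R)} [QuasiCompact π] {Z : Set C} (h : ∀ x : C, LocAt z π Z x) (V : C.Opens)
    (hV : ∀ x : C, (∀ k, z k ∉ (π x).asIdeal) → x ∉ Z → x ∈ V) : STree C V := by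
  have : CompactSpace C := QuasiCompact.compactSpace_of_compactSpace π
  refine STree.of_etale_pointwise V fun x => ?_
  obtain ⟨Y, g, h1, h2, h3, h4⟩ := h x
  exact ⟨Y, g, h1, h2, h3, h4 _ fun y hy hyZ => hV _ hy hyZ⟩

/-- Étale localization of the source. -/
theorem LocAt.of_etale {R : Type u} [CommRing R] {ι : Type} {z : ι → R} {C C' : Scheme.{u}}
    {π : C ⟶ Spec (CommRingCat.of R)} {Z : Set C} (g : C' ⟶ C) [Etale g] [QuasiCompact g] (x' : C')
    (h : LocAt z (g ≫ π) (g ⁻¹' Z) x') : LocAt z π Z (g x') := by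
  obtain ⟨Y, g', h1, h2, ⟨y, hy⟩, h4⟩ := h
  refine ⟨Y, g' ≫ g, inferInstance, inferInstance, ⟨y, ?_⟩, fun V hV => h4 V fun y hy hyZ => hV y ?_ ?_⟩
  · rw [Scheme.Hom.comp_apply, hy]
  · intro k
    have := hy k
    rwa [Scheme.Hom.comp_apply] at this ⊢
  · rw [Scheme.Hom.comp_apply]
    exact hyZ

end K153.LocDef
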