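import Groth.Agent.EtAcyc.K153.NodeAlg
import Groth.Agent.EtAcyc.K153.LocDef
import Groth.Agent.EtDl.K556.Mono
import Groth.Agent.CurvesB.MaxNodal460
import Groth.Agent.CurvesB.NodalPoint
import Groth.Agent.Etdl.H426.ConnNhd
import Groth.Agent.UnramA.NearPoint
import Groth.Agent.Models.NodeNodal
import Groth.Prelude.Def_SSMod

/-!
# Strong certificates near a node
-/

set_option autoImplicit false
universe u

open CategoryTheory CategoryTheory.Limits AlgebraicGeometry

namespace K153.LocNode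

open K153.TreeDef K153.STreeBasic K153.LocDef K153.NodeAlg K556.CertDef K556.SncAlg K556.SncPoly
open Groth.Agent.Models.NodeRing Groth.Agent.CurvesB.MaxNodal

theorem _root_.K153.TreeDef.STree.mono {X : Scheme.{u}} {V : X.Opens} (h : STree X V) :
    ∀ {V' : X.Opens}, V ≤ V' → STree X V' := by
  induction h with
  | leaf R z h V hV => exact fun hle => STree.leaf R z h _ fun p hp => hle (hV p hp)
  | @etale X V k Y f h1 h2 h3 h ih =>
    exact fun hle => STree.etale _ Y f h1 h2 h3 fun a => ih a ((f a).preimage_mono hle)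
  | @proper X V k Y f h1 h3 h ih =>
    exact fun hle => STree.proper _ Y f h1 h3 fun a => ih a ((f a).preimage_mono hle)

/-- A morphism from an affine scheme. -/
theorem quasiCompact_of_affine {R : Type u} [CommRing R] {C Y : Scheme.{u}} [IsAffine Y]
    (π : C ⟶ Spec (CommRingCat.of R)) [QuasiSeparated π] (g : Y ⟶ C) : QuasiCompact g := by
  have : QuasiCompact (g ≫ π) := inferInstance
  exact QuasiCompact.of_comp g π

/-- A smooth étale neighbourhood. -/
theorem locAt_of_smooth {R : Type u} [CommRing R] {ι : Type} [Finite ι] {z : ι → R} (h : SNC R z) {C : Scheme.{u}}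
    (π : C ⟶ Spec (CommRingCat.of R)) [QuasiSeparated π] {Z : Set C} (hZ : IsClosed Z) {U : Scheme.{u}} (g : U ⟶ C)
    [Etale g] [Smooth (g ≫ π)] (u : U) (hu : g u ∉ Z) : LocAt z π Z (g u) := by
  obtain ⟨Y, hY, huY, hYZ⟩ := exists_isAffineOpen_mem_and_subset (x := u)
    (U := ⟨g ⁻¹' Zᶜ, hZ.isOpen_compl.preimage g.continuous⟩) hu
  have := hY
  have : QuasiCompact (hY.fromSpec ≫ g) := quasiCompact_of_affine π _
  have hsm : Smooth (hY.fromSpec ≫ g ≫ π) := inferInstance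
  obtain ⟨φ, hφ⟩ := Spec.map_surjective (hY.fromSpec ≫ g ≫ π)
  refine ⟨Spec Γ(U, Y), hY.fromSpec ≫ g, inferInstance, inferInstance, ?_, fun V hV => ?_⟩
  · have h1 : u ∈ Set.range hY.fromSpec := by
      rw [hY.range_fromSpec]
      exact huY
    obtain ⟨y, hy⟩ := h1
    exact ⟨y, by rw [Scheme.Hom.comp_apply, hy]⟩
  · rw [← hφ] at hsm
    have h1 : φ.hom.Smooth := HasRingHomProperty.Spec_iff.mp hsm
    algebraize [φ.hom]
    refine STree.leaf Γ(U, Y) (fun i => algebraMap R Γ(U, Y) (z i)) (SNC.smooth h Γ(U, Y)) V fun p hp => hV p ?_ ?_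
    · intro k hk
      refine hp k ?_
      have h2 : π ((hY.fromSpec ≫ g) p) = Spec.map φ p := by
        rw [hφ]
        simp
      rw [h2] at hk
      exact hk
    · have h3 : hY.fromSpec p ∈ Y := by
        have : hY.fromSpec p ∈ Set.range hY.fromSpec := ⟨p, rfl⟩
        rw [hY.range_fromSpec] at this
        exact this
      rw [Scheme.Hom.comp_apply]
      exact hYZ h3

/-- The model with a monomial thickness. -/
theorem locAt_of_model {R : Type u} [CommRing R] {ι : Type} [Fintype ι] {z : ι → R} {C : Scheme.{u}}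
    (π : C ⟶ Spec (CommRingCat.of R)) [QuasiSeparated π] {Z : Set C} (hZ : IsClosed Z) {U : Scheme.{u}} (g : U ⟶ C)
    [Etale g] {B : Type u} [CommRing B] (φ : R →+* B) (hB : SNC B (fun i => φ (z i))) (c v : B) (hv : IsUnit v)
    (a : ι → ℕ) (hc : c = v * ∏ i, φ (z i) ^ a i) (e : U ⟶ Spec (CommRingCat.of (W B c))) [Etale e]
    (hfac : g ≫ π = e ≫ str B c ≫ Spec.map (CommRingCat.ofHom φ)) (u : U) (hu : g u ∉ Z) : LocAt z π Z (g u) := by
  obtain ⟨Y, hY, huY, hYZ⟩ := exists_isAffineOpen_mem_and_subset (x := u)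
    (U := ⟨g ⁻¹' Zᶜ, hZ.isOpen_compl.preimage g.continuous⟩) hu
  have := hY
  have : QuasiCompact (hY.fromSpec ≫ g) := quasiCompact_of_affine π _
  refine ⟨Spec Γ(U, Y), hY.fromSpec ≫ g, inferInstance, inferInstance, ?_, fun V hV => ?_⟩
  · have h1 : u ∈ Set.range hY.fromSpec := by
      rw [hY.range_fromSpec]
      exact huY
    obtain ⟨y, hy⟩ := h1
    exact ⟨y, by rw [Scheme.Hom.comp_apply, hy]⟩
  · let f : W B c := algebraMap B (W B c) (∏ i, φ (z i))
    have h1 : STree (Spec (CommRingCat.of (W B c))) (PrimeSpectrum.basicOpen f) :=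
      sres_W hB c v hv a hc _ fun p hp => hp
    refine STree.mono (STree.etale_pullback h1 (hY.fromSpec ≫ e)) fun y hy => hV y ?_ ?_
    · intro k hk
      have h2 : π ((hY.fromSpec ≫ g) y) =
          (str B c ≫ Spec.map (CommRingCat.ofHom φ)) ((hY.fromSpec ≫ e) y) := by
        have h3 := congrArg (fun m => m (hY.fromSpec y)) hfac
        simpa using h3
      rw [h2] at hk
      have hk' : algebraMap B (W B c) (φ (z k)) ∈ ((hY.fromSpec ≫ e) y).asIdeal := hk
      refine hy ?_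
      change algebraMap B (W B c) (∏ i, φ (z i)) ∈ ((hY.fromSpec ≫ e) y).asIdeal
      obtain ⟨r, hr⟩ : φ (z k) ∣ ∏ i, φ (z i) := Finset.dvd_prod_of_mem _ (Finset.mem_univ k)
      rw [hr, map_mul]
      exact Ideal.mul_mem_right _ _ hk'
    · have h3 : hY.fromSpec y ∈ Y := by
        have : hY.fromSpec y ∈ Set.range hY.fromSpec := ⟨y, rfl⟩
        rw [hY.range_fromSpec] at this
        exact this
      rw [Scheme.Hom.comp_apply]
      exact hYZ h3

/-- The origin of the model is not a smooth point. -/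
theorem mem_nonsmoothPts {R : Type u} [CommRing R] {C : Scheme.{u}} (π : C ⟶ Spec (CommRingCat.of R))
    [LocallyOfFinitePresentation π] {U : Scheme.{u}} (g : U ⟶ C) [Etale g] {B : Type u} [CommRing B] (c : B)
    (e : U ⟶ Spec (CommRingCat.of (W B c))) [Etale e] (h : Spec (CommRingCat.of B) ⟶ Spec (CommRingCat.of R))
    [Etale h] (hfac : g ≫ π = e ≫ str B c ≫ h) (y : U) (h0 : uu B c ∈ (e y).asIdeal)
    (h1 : vv B c ∈ (e y).asIdeal) : g y ∈ DualGr.nonsmoothPts π := by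
  intro hs
  obtain ⟨O, hO, hOs⟩ := (Groth.Agent.UnramA.NearPoint.exists_smooth_nhd_iff π (g y)).2 hs
  obtain ⟨Y, hY, hyY, hYO⟩ := exists_isAffineOpen_mem_and_subset (x := y) (U := g ⁻¹ᵁ O) hO
  have hrange : Set.range (hY.fromSpec ≫ g) ⊆ Set.range O.ι := by
    rintro _ ⟨t, rfl⟩
    have h3 : hY.fromSpec t ∈ Y := by
      have : hY.fromSpec t ∈ Set.range hY.fromSpec := ⟨t, rfl⟩
      rw [hY.range_fromSpec] at this
      exact this
    rw [Scheme.Opens.range_ι, Scheme.Hom.comp_apply]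
    exact hYO h3
  let l := IsOpenImmersion.lift O.ι (hY.fromSpec ≫ g) hrange
  have hl : l ≫ O.ι = hY.fromSpec ≫ g := IsOpenImmersion.lift_fac _ _ _
  have hle : Etale l := by
    have : Etale (l ≫ O.ι) := by
      rw [hl]
      infer_instance
    exact Etale.of_comp l O.ι
  have hsm : Smooth ((hY.fromSpec ≫ e ≫ str B c) ≫ h) := by
    have h2 : (hY.fromSpec ≫ e ≫ str B c) ≫ h = l ≫ O.ι ≫ π := by
      rw [← Category.assoc l, hl]
      simp only [Category.assoc, hfac]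
    rw [h2]
    infer_instance
  have hsm' : Smooth (hY.fromSpec ≫ e ≫ str B c) :=
    Groth.Agent.Etdl.H426.ConnNhd.smooth_of_comp (hY.fromSpec ≫ e ≫ str B c) h
  obtain ⟨ψ, hψ⟩ := Spec.map_surjective (hY.fromSpec ≫ e)
  have het : Etale (Spec.map ψ) := by
    rw [hψ]
    infer_instance
  have h4 : ψ.hom.Etale := (HasRingHomProperty.Spec_iff (P := @Etale)).mp het
  have h5 : (ψ.hom.comp (algebraMap B (W B c))).Smooth := by
    refine (HasRingHomProperty.Spec_iff (P := @Smooth) (φ := CommRingCat.ofHom (ψ.hom.comp (algebraMap B (W B c))))).mp ?_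
    have h6 : Spec.map (CommRingCat.ofHom (ψ.hom.comp (algebraMap B (W B c)))) = hY.fromSpec ≫ e ≫ str B c := by
      rw [CommRingCat.ofHom_comp, Spec.map_comp, ← Category.assoc, ← hψ]
      rfl
    rw [h6]
    exact hsm'
  have h7 : y ∈ Set.range hY.fromSpec := by
    rw [hY.range_fromSpec]
    exact hyY
  obtain ⟨q, rfl⟩ := h7
  have h8 : e (hY.fromSpec q) = Spec.map ψ q := by
    rw [hψ, Scheme.Hom.comp_apply]
  rw [h8] at h0 h1
  exact not_smooth' ψ.hom (RingHom.Etale.iff_flat_and_formallyUnramified.1 h4).1 h5 q h0 h1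

section Chart

open Groth.Agent.Models.NodeNodal

theorem exists_dense_algebraic {B : Type u} [CommRing B] (c : B) (w : PrimeSpectrum (W B c))
    (h0 : uu B c ∈ w.asIdeal) (h1 : vv B c ∈ w.asIdeal) (f : W B c) (hf : f ∉ w.asIdeal) :
    ∃ s : B, s ∉ w.asIdeal.comap (algebraMap B (W B c)) ∧ ∀ P : PrimeSpectrum B, c ∈ P.asIdeal → s ∉ P.asIdeal →
      ∃ ν : PrimeSpectrum (W B c), uu B c ∈ ν.asIdeal ∧ vv B c ∈ ν.asIdeal ∧ f ∉ ν.asIdeal ∧
        ν.asIdeal.comap (algebraMap B (W B c)) = P.asIdeal := by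
  have key : ∀ (E : Type u) [CommRing E] (χ : B →+* E) (hc : χ c = 0),
      ∃ κ : W B c →+* E, κ (uu B c) = 0 ∧ κ (vv B c) = 0 ∧ ∀ b, κ (algebraMap B (W B c) b) = χ b := fun E _ χ hc =>
    ⟨lift χ 0 0 (by rw [hc, zero_mul]), lift_uu _ _ _ _, lift_vv _ _ _ _, fun b => lift_algebraMap _ _ _ _ b⟩
  obtain ⟨ρ, hρu, hρv, hρ⟩ := key (B ⧸ Ideal.span {c}) (Ideal.Quotient.mk _)
    (Ideal.Quotient.eq_zero_iff_mem.2 (Ideal.mem_span_singleton_self c))
  obtain ⟨s, hs⟩ := Ideal.Quotient.mk_surjective (ρ f)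
  refine ⟨s, fun hsp => hf ?_, fun P hcP hsP => ?_⟩
  · have hc : c ∈ w.asIdeal.comap (algebraMap B (W B c)) := by
      rw [Ideal.mem_comap, ← uu_mul_vv]
      exact w.asIdeal.mul_mem_right _ h0
    have hc2 : (Ideal.Quotient.mk w.asIdeal) (algebraMap B (W B c) c) = 0 := Ideal.Quotient.eq_zero_iff_mem.2 hc
    let θ : (B ⧸ Ideal.span {c}) →+* (W B c ⧸ w.asIdeal) :=
      Ideal.Quotient.lift _ ((Ideal.Quotient.mk w.asIdeal).comp (algebraMap B (W B c))) (fun b hb => by
        rw [Ideal.mem_span_singleton] at hb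
        obtain ⟨r, rfl⟩ := hb
        rw [map_mul, RingHom.comp_apply, hc2, zero_mul])
    have h2 : θ.comp ρ = Ideal.Quotient.mk w.asIdeal := by
      refine hom_ext (D := B) (a := c) (B := W B c ⧸ w.asIdeal) (f := θ.comp ρ) (g := Ideal.Quotient.mk w.asIdeal)
        (fun d => ?_) ?_ ?_
      · rw [RingHom.comp_apply, hρ]
        rfl
      · rw [RingHom.comp_apply, hρu, map_zero, Ideal.Quotient.eq_zero_iff_mem.2 h0]
      · rw [RingHom.comp_apply, hρv, map_zero, Ideal.Quotient.eq_zero_iff_mem.2 h1]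
    have h3 : Ideal.Quotient.mk w.asIdeal f = 0 := by
      rw [← h2, RingHom.comp_apply, ← hs]
      change Ideal.Quotient.mk w.asIdeal (algebraMap B (W B c) s) = 0
      exact Ideal.Quotient.eq_zero_iff_mem.2 hsp
    exact Ideal.Quotient.eq_zero_iff_mem.1 h3
  · have hcP' : Ideal.span {c} ≤ P.asIdeal := (Ideal.span_singleton_le_iff_mem _).2 hcP
    let θ : (B ⧸ Ideal.span {c}) →+* (B ⧸ P.asIdeal) := Ideal.Quotient.factor hcP'
    refine ⟨⟨RingHom.ker (θ.comp ρ), RingHom.ker_isPrime _⟩, ?_, ?_, ?_, ?_⟩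
    · change θ (ρ (uu B c)) = 0
      rw [hρu, map_zero]
    · change θ (ρ (vv B c)) = 0
      rw [hρv, map_zero]
    · intro h2
      have h3 : θ (ρ f) = 0 := h2
      rw [← hs, Ideal.Quotient.factor_mk] at h3
      exact hsP (Ideal.Quotient.eq_zero_iff_mem.1 h3)
    · ext b
      change θ (ρ (algebraMap B (W B c) b)) = 0 ↔ _
      rw [hρ, Ideal.Quotient.factor_mk, Ideal.Quotient.eq_zero_iff_mem]

theorem locAt_of_chart {R : Type u} [CommRing R] {ι : Type} [Fintype ι] {z : ι → R} (h : SNC R z) {C : Scheme.{u}}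
    (π : C ⟶ Spec (CommRingCat.of R)) [LocallyOfFinitePresentation π] [QuasiSeparated π] {Z : Set C}
    (hZ : IsClosed Z) (x : C) (hx : x ∉ Z) (hch : Chart π x)
    (hsm : ∀ x : C, (∀ k, z k ∉ (π x).asIdeal) → x ∉ DualGr.nonsmoothPts π) : LocAt z π Z x := by
  obtain ⟨U, g, B, _, c, e, h', hg, he, hh, hfac, ⟨u, rfl⟩⟩ := hch
  have hsmcase : (∃ O : (Spec (CommRingCat.of (W B c))).Opens, e u ∈ O ∧
      Smooth (O.ι ≫ Spec.map (CommRingCat.ofHom (algebraMap B (W B c))))) → LocAt z π Z (g u) := by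
    rintro ⟨O, hO, hs⟩
    have h1 : (e ⁻¹ᵁ O).ι ≫ g ≫ π =
        (e ∣_ O) ≫ (O.ι ≫ Spec.map (CommRingCat.ofHom (algebraMap B (W B c)))) ≫ h' := by
      rw [hfac, Category.assoc, morphismRestrict_ι_assoc]
    have h2 : Smooth (((e ⁻¹ᵁ O).ι ≫ g) ≫ π) := by
      rw [Category.assoc, h1]
      infer_instance
    exact locAt_of_smooth h π hZ ((e ⁻¹ᵁ O).ι ≫ g) ⟨u, hO⟩ hx
  by_cases h0 : uu B c ∈ (e u).asIdeal
  swap
  · exact hsmcase (exists_smooth_uu B c (e u) h0)
  by_cases h1 : vv B c ∈ (e u).asIdeal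
  swap
  · exact hsmcase (exists_smooth_vv B c (e u) h1)
  obtain ⟨φ', rfl⟩ := Spec.map_surjective h'
  obtain ⟨φ, rfl⟩ : ∃ φ : R →+* B, φ' = CommRingCat.ofHom φ := ⟨φ'.hom, rfl⟩
  have hφ : φ.Etale := (HasRingHomProperty.Spec_iff (P := @Etale)).mp hh
  have hB : SNC B (fun i => φ (z i)) := by
    let _ := φ.toAlgebra
    have : Algebra.Etale R B := hφ
    exact SNC.smooth h B
  -- the image of `e`
  obtain ⟨_, ⟨f, rfl⟩, hfw, hfe⟩ := PrimeSpectrum.isTopologicalBasis_basic_opens.exists_subset_of_mem_open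
    (show e u ∈ Set.range e from ⟨u, rfl⟩) e.isOpenMap.isOpen_range
  obtain ⟨s, hsp, hs⟩ := exists_dense_algebraic c (e u) h0 h1 f hfw
  have hK : ∀ P : PrimeSpectrum B, c ∈ P.asIdeal → s ∉ P.asIdeal → ∃ k, φ (z k) ∈ P.asIdeal := by
    intro P hcP hsP
    obtain ⟨ν, hν0, hν1, hνf, hνP⟩ := hs P hcP hsP
    obtain ⟨y, hy⟩ := hfe hνf
    have h2 : g y ∈ DualGr.nonsmoothPts π :=
      mem_nonsmoothPts π g c e (Spec.map (CommRingCat.ofHom φ)) hfac y (by rw [hy]; exact hν0) (by rw [hy]; exact hν1)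
    by_contra hcon
    push Not at hcon
    refine hsm (g y) (fun k hk => hcon k ?_) h2
    have h3 : π (g y) = (str B c ≫ Spec.map (CommRingCat.ofHom φ)) ν := by
      have h4 := congrArg (fun m => m y) hfac
      simp only [Scheme.Hom.comp_apply] at h4
      rw [h4, hy]
      simp
    rw [h3] at hk
    rw [← hνP]
    exact hk
  -- the thickness is a monomial on a localization
  have hcp : c ∈ (e u).asIdeal.comap (algebraMap B (W B c)) := by
    rw [Ideal.mem_comap, ← uu_mul_vv]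
    exact (e u).asIdeal.mul_mem_right _ h0
  let p : PrimeSpectrum B := ⟨(e u).asIdeal.comap (algebraMap B (W B c)), Ideal.IsPrime.comap _⟩
  let B₁ := Localization.Away s
  have hB₁ : SNC B₁ (fun i => algebraMap B B₁ (φ (z i))) := SNC.localization hB (Submonoid.powers s)
  obtain ⟨N, hN⟩ : ∃ N : ℕ, algebraMap B B₁ c ∣ (∏ i, algebraMap B B₁ (φ (z i))) ^ N := by
    have h2 : (∏ i, algebraMap B B₁ (φ (z i))) ∈ (Ideal.span {algebraMap B B₁ c}).radical := by
      rw [Ideal.radical_eq_sInf, Ideal.mem_sInf]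
      rintro P₁ ⟨hP₁, hP₁p⟩
      have h3 : s ∉ P₁.comap (algebraMap B B₁) := fun h4 =>
        hP₁p.ne_top (Ideal.eq_top_of_isUnit_mem _ h4 (IsLocalization.Away.algebraMap_isUnit s))
      obtain ⟨k, hk⟩ := hK ⟨P₁.comap (algebraMap B B₁), Ideal.IsPrime.comap _⟩
        (hP₁ (Ideal.mem_span_singleton_self _)) h3
      obtain ⟨r, hr⟩ : algebraMap B B₁ (φ (z k)) ∣ ∏ i, algebraMap B B₁ (φ (z i)) :=
        Finset.dvd_prod_of_mem _ (Finset.mem_univ k)
      rw [hr]
      exact Ideal.mul_mem_right _ _ hk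
    obtain ⟨N, hN⟩ := h2
    exact ⟨N, Ideal.mem_span_singleton.1 hN⟩
  obtain ⟨p₁, hp₁⟩ : ∃ p₁ : PrimeSpectrum B₁, PrimeSpectrum.comap (algebraMap B B₁) p₁ = p := by
    have h2 : p ∈ (PrimeSpectrum.basicOpen s : Set (PrimeSpectrum B)) := hsp
    rw [← PrimeSpectrum.localization_away_comap_range B₁ s] at h2
    exact h2
  obtain ⟨a, s', hs'p, hs'⟩ := K556.Mono.exists_away hB₁ p₁ _ N hN
  let B₂ := Localization.Away s'
  obtain ⟨v, hv, hcv⟩ := hs' s' dvd_rfl B₂
  have hB₂ : SNC B₂ (fun i => algebraMap B₁ B₂ (algebraMap B B₁ (φ (z i)))) :=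
    SNC.localization hB₁ (Submonoid.powers s')
  obtain ⟨p₂, hp₂⟩ : ∃ p₂ : PrimeSpectrum B₂, PrimeSpectrum.comap (algebraMap B₁ B₂) p₂ = p₁ := by
    have h2 : p₁ ∈ (PrimeSpectrum.basicOpen s' : Set (PrimeSpectrum B₁)) := hs'p
    rw [← PrimeSpectrum.localization_away_comap_range B₂ s'] at h2
    exact h2
  let ψ : B →+* B₂ := (algebraMap B₁ B₂).comp (algebraMap B B₁)
  have hψ : IsOpenImmersion (Spec.map (CommRingCat.ofHom ψ)) := by
    have h2 : Spec.map (CommRingCat.ofHom ψ) = Spec.map (CommRingCat.ofHom (algebraMap B₁ B₂)) ≫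
        Spec.map (CommRingCat.ofHom (algebraMap B B₁)) := by
      rw [← Spec.map_comp]
      rfl
    have h3 : IsOpenImmersion (Spec.map (CommRingCat.ofHom (algebraMap B₁ B₂))) :=
      IsOpenImmersion.of_isLocalization s'
    have h4 : IsOpenImmersion (Spec.map (CommRingCat.ofHom (algebraMap B B₁))) :=
      IsOpenImmersion.of_isLocalization s
    rw [h2]
    infer_instance
  have hpb := isPullback_SpecMap_of_isPushout _ _ _ _ (isPushout_W ψ c)
  let m := Spec.map (CommRingCat.ofHom (mapW ψ c))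
  have hm : IsOpenImmersion m := MorphismProperty.of_isPullback hpb hψ
  obtain ⟨w₂, -, hw₂⟩ := Scheme.exists_preimage_of_isPullback hpb p₂ (e u) (by
    refine PrimeSpectrum.ext ?_
    change p₂.asIdeal.comap ψ = p.asIdeal
    rw [← hp₁, ← hp₂]
    rfl)
  obtain ⟨u₂, hu₂, -⟩ := Scheme.Pullback.exists_preimage_pullback (f := e) (g := m) u w₂ hw₂.symm
  have hfac₂ : (pullback.fst e m ≫ g) ≫ π = pullback.snd e m ≫ str B₂ (ψ c) ≫
      Spec.map (CommRingCat.ofHom (ψ.comp φ)) := by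
    have h2 : m ≫ str B c = str B₂ (ψ c) ≫ Spec.map (CommRingCat.ofHom ψ) := hpb.w.symm
    have h3 : Spec.map (CommRingCat.ofHom (ψ.comp φ)) =
        Spec.map (CommRingCat.ofHom ψ) ≫ Spec.map (CommRingCat.ofHom φ) := by
      rw [← Spec.map_comp]
      rfl
    rw [Category.assoc, hfac, pullback.condition_assoc, ← Category.assoc m, h2, Category.assoc, h3]
  have hc₂ : ψ c = v * ∏ i, (ψ.comp φ) (z i) ^ a i := hcv
  have h5 := locAt_of_model π hZ (pullback.fst e m ≫ g) (ψ.comp φ) hB₂ (ψ c) v hv a hc₂ (pullback.snd e m) hfac₂ u₂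
    (by rw [Scheme.Hom.comp_apply, hu₂]; exact hx)
  rw [Scheme.Hom.comp_apply, hu₂] at h5
  exact h5

end Chart

end K153.LocNode
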