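import Groth.Agent.EtAcyc.K153.STreeBasic
import Groth.Agent.EtDl.K556.Tor

/-!
# Strong certificates for the toric surfaces `T S = z^a` over a ring with strict normal crossings
-/

set_option autoImplicit false
universe u

open Polynomial

namespace K153.STreeTor

open K153.TreeDef K153.STreeBasic K556.CertDef K556.SncAlg K556.SncPoly
open K556.Tor (IsTor isTor_model isTor_model' isTor_T0 isTor_T1 prod_update_mem T0_T mono_T0)

variable {R : Type u} [CommRing R]

/-- The case `m = 1`. -/
theorem res_one {ι : Type} [Fintype ι] {z : ι → R} (h : SNC R z) {Q : Type u} [CommRing Q] [Algebra R Q]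
    {T S : Q} (hQ : IsTor R Q 1 T S) : SRes Q (T * algebraMap R Q (∏ i, z i)) := by
  classical
  obtain ⟨e, h1, h2⟩ := hQ.exists_equiv (isTor_model' (1 : R) (C X * X - 1) (by rw [C_1, C_1]))
  have hp := SRes.leaf (SNC.polynomial h 0)
  have hloc : IsLocalization.Away (X : R[X]) (AdjoinRoot (C X * X - 1 : R[X][X])) :=
    IsLocalization.adjoin_inv (X : R[X])
  have hr := SRes.localizationAway hp X (AdjoinRoot (C X * X - 1 : R[X][X]))
  refine SRes.of_ringEquiv e.toRingEquiv ?_
  have e3 : e (T * algebraMap R Q (∏ i, z i)) =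
      algebraMap R[X] (AdjoinRoot (C X * X - 1 : R[X][X])) (X * C (∏ i, z i)) := by
    rw [map_mul, map_mul, h1, e.commutes]
    rfl
  have e4 : ∏ o : Option ι, (o.elim (X - C 0) (fun i => C (z i)) : R[X]) = X * C (∏ i, z i) := by
    rw [Fintype.prod_option]
    simp
  rw [e4, ← e3] at hr
  exact hr

/-- The case `m = z_j`. -/
theorem res_coord {ι : Type} [Fintype ι] {z : ι → R} (h : SNC R z) (j : ι) {Q : Type u} [CommRing Q]
    [Algebra R Q] {T S : Q} (hQ : IsTor R Q (z j) T S) : SRes Q (T * algebraMap R Q (∏ i, z i)) := by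
  classical
  have hs := SNC.blowup (SNC.polynomial h 0) none (some j) (Option.some_ne_none j).symm
  have hN : (C (X - C 0) * X - C (C (z j)) : R[X][X]) = C X * X - C (C (z j)) := by rw [C_0, sub_zero]
  obtain ⟨e, h1, h2⟩ := hQ.exists_equiv (isTor_model' (z j) _ hN)
  refine SRes.of_ringEquiv e.toRingEquiv ?_
  refine SRes.mono (SRes.leaf hs) fun p hp => ?_
  have hp' : e (T * algebraMap R Q (∏ i, z i)) ∈ p.asIdeal := hp
  refine prod_update_mem (p.asIdeal) _ j _ ?_ ?_
  · have h3 := (isTor_model' (z j) _ hN).eq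
    refine Eq.trans ?_ h3
    congr 2
    change C (X - C 0) = _
    rw [C_0, sub_zero]
  · rw [map_mul, h1, e.commutes, map_prod] at hp'
    have hX0 : (X - C 0 : R[X]) = X := by rw [C_0, sub_zero]
    have e5 : (Ideal.Quotient.mk (Ideal.span {(C (X - C 0) * X - C (C (z j)) : R[X][X])})) (C X) =
        (Ideal.Quotient.mk (Ideal.span {(C (X - C 0) * X - C (C (z j)) : R[X][X])})) (C (X - C 0)) :=
      congrArg (fun t : R[X] =>
        Ideal.Quotient.mk (Ideal.span {(C (X - C 0) * X - C (C (z j)) : R[X][X])}) (C t)) hX0.symm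
    rw [e5] at hp'
    exact hp'

/-- The toric surface `T S = ∏ z^a`. -/
theorem res_monomial {ι : Type} [Fintype ι] {z : ι → R} (h : SNC R z) (n : ℕ) : ∀ (a : ι → ℕ) (_ : ∑ i, a i = n)
    {Q : Type u} [CommRing Q] [Algebra R Q] {T S : Q} (_ : IsTor R Q (∏ i, z i ^ a i) T S),
    SRes Q (T * algebraMap R Q (∏ i, z i)) := by
  classical
  induction n with
  | zero =>
    intro a ha Q _ _ T S hQ
    have h0 : ∀ i, a i = 0 := fun i => by
      have := (Finset.sum_eq_zero_iff.1 ha) i (Finset.mem_univ i)
      exact this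
    have h1 : ∏ i, z i ^ a i = 1 := Finset.prod_eq_one fun i _ => by rw [h0, pow_zero]
    rw [h1] at hQ
    exact res_one h hQ
  | succ n ih =>
    intro a ha Q _ _ T S hQ
    obtain ⟨j, hj⟩ : ∃ j, a j ≠ 0 := by
      by_contra hcon
      push Not at hcon
      rw [Finset.sum_eq_zero fun i _ => hcon i] at ha
      omega
    let a' := Function.update a j (a j - 1)
    have e1 : ∏ i, z i ^ a i = z j * ∏ i, z i ^ a' i := by
      rw [← Finset.mul_prod_erase Finset.univ (fun i => z i ^ a i) (Finset.mem_univ j),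
        ← Finset.mul_prod_erase Finset.univ (fun i => z i ^ a' i) (Finset.mem_univ j), ← mul_assoc, ← pow_succ']
      congr 1
      · simp only [a', Function.update_self]
        congr 1
        omega
      · refine Finset.prod_congr rfl fun i hi => ?_
        simp only [a', Function.update_of_ne (Finset.ne_of_mem_erase hi)]
    have e2 : ∑ i, a' i = n := by
      rw [← Finset.add_sum_erase Finset.univ a (Finset.mem_univ j)] at ha
      rw [← Finset.add_sum_erase Finset.univ a' (Finset.mem_univ j)]
      have e3 : ∑ i ∈ Finset.univ.erase j, a' i = ∑ i ∈ Finset.univ.erase j, a i :=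
        Finset.sum_congr rfl fun i hi => by simp only [a', Function.update_of_ne (Finset.ne_of_mem_erase hi)]
      rw [e3]
      simp only [a', Function.update_self]
      omega
    refine SRes.pmod T (algebraMap R Q (z j)) (algebraMap R Q (∏ i, z i ^ a' i)) S
      (by rw [hQ.eq, e1, map_mul]) ?_ ?_
    · refine SRes.mono (ih a' e2 (isTor_T0 e1 hQ)) fun p hp => ?_
      exact mono_T0 _ _ _ _ _ (Finset.dvd_prod_of_mem _ (Finset.mem_univ j)) p hp
    · refine SRes.mono (res_coord h j (isTor_T1 e1 hQ)) fun p hp => ?_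
      rw [map_mul, ← IsScalarTower.algebraMap_apply] at hp
      exact hp

end K153.STreeTor
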