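import Groth.Agent.Models.NodeRing
import Groth.Agent.S0558
import Groth.Agent.Flat2G.SmoothRegNorm
import Groth.Agent.EtAcyc.K153.STreeTor
import Mathlib.RingTheory.LocalRing.ResidueField.Fiber
import Mathlib.RingTheory.Ideal.GoingDown

/-!
# The model `uv = c` of a node: universal property, and the origin is not a smooth point
-/

set_option autoImplicit false
universe u

open TensorProduct

namespace K153.NodeAlg

open Groth.Agent.Models.NodeRing K556.Tor K556.CertDef K153.STreeBasic

theorem isTor_W (D : Type u) [CommRing D] (a : D) : IsTor D (W D a) a (uu D a) (vv D a) := by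
  refine ⟨uu_mul_vv D a, ?_, ?_⟩
  · intro B _ _ t s hts
    exact ⟨{ lift (algebraMap D B) t s hts with commutes' := fun d => lift_algebraMap _ _ _ hts d },
      lift_uu _ _ _ hts, lift_vv _ _ _ hts⟩
  · intro B _ _ φ ψ h1 h2
    have h : (φ : W D a →+* B) = ψ := hom_ext (fun d => by simp) h1 h2
    exact AlgHom.coe_ringHom_injective h

/-- Scaling one of the coordinates by a unit. -/
theorem isTor_unit {D Q : Type u} [CommRing D] [CommRing Q] [Algebra D Q] {m m' : D} {T S : Q}
    (h : IsTor D Q m T S) (v : D) (hv : IsUnit v) (hm : m = v * m') :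
    ∃ T' : Q, IsTor D Q m' T' S := by
  obtain ⟨v, rfl⟩ := hv
  have e1 : ∀ (B : Type u) [CommRing B] [Algebra D B], algebraMap D B (v : D) * algebraMap D B ((v⁻¹ : Dˣ) : D) = 1 := by
    intro B _ _
    rw [← map_mul, Units.mul_inv, map_one]
  refine ⟨algebraMap D Q ((v⁻¹ : Dˣ) : D) * T, ?_, ?_, ?_⟩
  · rw [mul_assoc, h.eq, ← map_mul, hm, ← mul_assoc, Units.inv_mul, one_mul]
  · intro B _ _ t s hts
    obtain ⟨φ, h1, h2⟩ := h.lift B (algebraMap D B (v : D) * t) s (by rw [mul_assoc, hts, hm, map_mul])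
    refine ⟨φ, ?_, h2⟩
    rw [map_mul, φ.commutes, h1, ← mul_assoc, mul_comm (algebraMap D B ((v⁻¹ : Dˣ) : D)), e1, one_mul]
  · intro B _ _ φ ψ h1 h2
    refine h.ext B φ ψ ?_ h2
    rw [map_mul, map_mul, φ.commutes, ψ.commutes] at h1
    have h3 := congrArg (algebraMap D B (v : D) * ·) h1
    simp only [← mul_assoc, e1, one_mul] at h3
    exact h3

/-- Certificates for the model `uv = c`. -/
theorem sres_W {D : Type u} [CommRing D] {ι : Type} [Fintype ι] {z : ι → D} (h : SNC D z) (c v : D) (hv : IsUnit v)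
    (a : ι → ℕ) (hc : c = v * ∏ i, z i ^ a i) : SRes (W D c) (algebraMap D (W D c) (∏ i, z i)) := by
  obtain ⟨T', hT⟩ := isTor_unit (isTor_W D c) v hv hc
  exact SRes.mono (K153.STreeTor.res_monomial h _ a rfl hT) fun p hp => p.asIdeal.mul_mem_left _ hp

section NotSmooth

variable {B : Type u} [CommRing B] {c : B}

/-- The prime ideal of a branch through the origin. -/
theorem exists_branch (w : PrimeSpectrum (W B c)) (h0 : uu B c ∈ w.asIdeal) (h1 : vv B c ∈ w.asIdeal) (b : Bool) :
    ∃ w₁ : PrimeSpectrum (W B c), w₁ ≤ w ∧ w₁.asIdeal.comap (algebraMap B (W B c)) =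
      w.asIdeal.comap (algebraMap B (W B c)) ∧ (b = true → uu B c ∉ w₁.asIdeal) ∧ (b = false → vv B c ∉ w₁.asIdeal) := by
  set p : Ideal B := w.asIdeal.comap (algebraMap B (W B c)) with hp
  have hpp : p.IsPrime := Ideal.IsPrime.comap _
  have hc : c ∈ p := by
    rw [hp, Ideal.mem_comap, ← uu_mul_vv]
    exact w.asIdeal.mul_mem_right _ h0
  have hc' : Ideal.Quotient.mk p c = 0 := Ideal.Quotient.eq_zero_iff_mem.2 hc
  let φ : W B c →+* Polynomial (B ⧸ p) := lift (Polynomial.C.comp (Ideal.Quotient.mk p))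
    (if b then Polynomial.X else 0) (if b then 0 else Polynomial.X) (by
      rw [RingHom.comp_apply, hc', map_zero]
      cases b <;> simp)
  have hφd : ∀ d, φ (algebraMap B (W B c) d) = Polynomial.C (Ideal.Quotient.mk p d) := fun d =>
    lift_algebraMap _ _ _ _ d
  have hφu : φ (uu B c) = if b then Polynomial.X else 0 := lift_uu _ _ _ _
  have hφv : φ (vv B c) = if b then 0 else Polynomial.X := lift_vv _ _ _ _
  refine ⟨⟨RingHom.ker φ, RingHom.ker_isPrime _⟩, ?_, ?_, ?_, ?_⟩
  · intro f hf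
    -- the quotient map factors through `φ`
    let ψ : Polynomial (B ⧸ p) →+* (W B c ⧸ w.asIdeal) :=
      (Ideal.quotientMap w.asIdeal (algebraMap B (W B c)) le_rfl).comp (Polynomial.evalRingHom 0)
    have h2 : ψ.comp φ = Ideal.Quotient.mk w.asIdeal := by
      refine hom_ext (D := B) (a := c) (B := W B c ⧸ w.asIdeal) (f := ψ.comp φ) (g := Ideal.Quotient.mk w.asIdeal) (fun d => ?_) ?_ ?_
      · rw [RingHom.comp_apply, hφd]
        simp only [ψ, RingHom.comp_apply, Polynomial.coe_evalRingHom, Polynomial.eval_C]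
        exact Ideal.quotientMap_mk
      · rw [RingHom.comp_apply, hφu, Ideal.Quotient.eq_zero_iff_mem.2 h0]
        cases b <;> simp [ψ]
      · rw [RingHom.comp_apply, hφv, Ideal.Quotient.eq_zero_iff_mem.2 h1]
        cases b <;> simp [ψ]
    have hf' : φ f = 0 := hf
    have h3 : Ideal.Quotient.mk w.asIdeal f = 0 := by
      rw [← h2, RingHom.comp_apply, hf', map_zero]
    exact Ideal.Quotient.eq_zero_iff_mem.1 h3
  · ext d
    change φ (algebraMap B (W B c) d) = 0 ↔ d ∈ p
    rw [hφd, Polynomial.C_eq_zero, Ideal.Quotient.eq_zero_iff_mem]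
  · rintro rfl h2
    have h3 : φ (uu B c) = 0 := h2
    rw [hφu] at h3
    simp at h3
  · rintro rfl h2
    have h3 : φ (vv B c) = 0 := h2
    rw [hφv] at h3
    simp at h3

theorem not_smooth {A : Type u} [CommRing A] [Algebra B A] [Algebra (W B c) A] [IsScalarTower B (W B c) A]
    [Module.Flat (W B c) A] [Algebra.Smooth B A] (q : PrimeSpectrum A)
    (h0 : algebraMap (W B c) A (uu B c) ∈ q.asIdeal) (h1 : algebraMap (W B c) A (vv B c) ∈ q.asIdeal) : False := by
  let p : Ideal B := q.asIdeal.comap (algebraMap B A)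
  have hpp : p.IsPrime := Ideal.IsPrime.comap _
  let w : PrimeSpectrum (W B c) := PrimeSpectrum.comap (algebraMap (W B c) A) q
  have hcp : c ∈ p := by
    change algebraMap B A c ∈ q.asIdeal
    rw [IsScalarTower.algebraMap_apply B (W B c) A, ← uu_mul_vv, map_mul]
    exact q.asIdeal.mul_mem_right _ h0
  have hwp : w.asIdeal.comap (algebraMap B (W B c)) = p := by
    change (q.asIdeal.comap (algebraMap (W B c) A)).comap (algebraMap B (W B c)) = _
    rw [Ideal.comap_comap, ← IsScalarTower.algebraMap_eq]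
  have hreg : IsRegularRing (p.Fiber A) :=
    Groth.Agent.Flat2G.SmoothRegNorm.isRegularRing_of_smooth (R := p.ResidueField)
  let α := PrimeSpectrum.primesOverOrderIsoFiber B A p
  have hqp : q.asIdeal ∈ p.primesOver A := ⟨q.2, ⟨rfl⟩⟩
  let q' : PrimeSpectrum (p.Fiber A) := α ⟨q.asIdeal, hqp⟩
  have := hreg.isRegularLocalRing_localization q'.asIdeal
  have hdom : IsDomain (Localization.AtPrime q'.asIdeal) :=
    Groth.Agent.S0558.result (Localization.AtPrime q'.asIdeal)
  let i : A →+* p.Fiber A := (Algebra.TensorProduct.includeRight : A →ₐ[B] p.ResidueField ⊗[B] A).toRingHom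
  have key : ∀ x : W B c, (∃ w₁ : PrimeSpectrum (W B c), w₁ ≤ w ∧ w₁.asIdeal.comap (algebraMap B (W B c)) =
      w.asIdeal.comap (algebraMap B (W B c)) ∧ x ∉ w₁.asIdeal) →
      algebraMap (p.Fiber A) (Localization.AtPrime q'.asIdeal) (i (algebraMap (W B c) A x)) ≠ 0 := by
    rintro x ⟨w₁, hle, hcomap, hx⟩ hzero
    obtain ⟨Q, hQq, hQ, hQw⟩ := Ideal.exists_ideal_le_liesOver_of_le (p := w₁.asIdeal) (q := w.asIdeal) q.asIdeal
      (by exact hle)
    have hQp : Q ∈ p.primesOver A := by
      refine ⟨hQ, ⟨?_⟩⟩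
      rw [← hwp, ← hcomap, hQw.over]
      ext d
      simp [Ideal.under, IsScalarTower.algebraMap_apply B (W B c) A]
    let Q' : PrimeSpectrum (p.Fiber A) := α ⟨Q, hQp⟩
    have hQ' : Q' ≤ q' := α.monotone (show (⟨Q, hQp⟩ : p.primesOver A) ≤ ⟨q.asIdeal, hqp⟩ from hQq)
    rw [IsLocalization.map_eq_zero_iff q'.asIdeal.primeCompl] at hzero
    obtain ⟨s, hs⟩ := hzero
    have h3 : (s : p.Fiber A) * i (algebraMap (W B c) A x) ∈ Q'.asIdeal := by
      rw [hs]
      exact Q'.asIdeal.zero_mem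
    rcases Q'.2.mem_or_mem h3 with h4 | h4
    · exact s.2 (hQ' h4)
    · have h5 : (α.symm Q').1 = Q'.asIdeal.comap i := rfl
      rw [OrderIso.symm_apply_apply] at h5
      have h6 : algebraMap (W B c) A x ∈ Q := by
        change algebraMap (W B c) A x ∈ (⟨Q, hQp⟩ : p.primesOver A).1
        rw [h5]
        exact h4
      apply hx
      rw [hQw.over]
      exact h6
  have hzero : algebraMap (p.Fiber A) (Localization.AtPrime q'.asIdeal) (i (algebraMap (W B c) A (uu B c))) *
      algebraMap (p.Fiber A) (Localization.AtPrime q'.asIdeal) (i (algebraMap (W B c) A (vv B c))) = 0 := by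
    rw [← map_mul, ← map_mul, ← map_mul, uu_mul_vv, ← IsScalarTower.algebraMap_apply]
    have h7 : i (algebraMap B A c) = 0 := by
      change (1 : p.ResidueField) ⊗ₜ[B] algebraMap B A c = 0
      rw [Algebra.algebraMap_eq_smul_one, TensorProduct.tmul_smul, TensorProduct.smul_tmul', Algebra.smul_def,
        Ideal.algebraMap_residueField_eq_zero.2 hcp, zero_mul, TensorProduct.zero_tmul]
    rw [h7, map_zero]
  rcases mul_eq_zero.1 hzero with h | h
  · obtain ⟨w₁, e1, e2, e3, -⟩ := exists_branch w h0 h1 true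
    exact key _ ⟨w₁, e1, e2, e3 rfl⟩ h
  · obtain ⟨w₁, e1, e2, -, e3⟩ := exists_branch w h0 h1 false
    exact key _ ⟨w₁, e1, e2, e3 rfl⟩ h

theorem not_smooth' {A : Type u} [CommRing A] (ψ : W B c →+* A) (hf : ψ.Flat)
    (hs : (ψ.comp (algebraMap B (W B c))).Smooth) (q : PrimeSpectrum A)
    (h0 : ψ (uu B c) ∈ q.asIdeal) (h1 : ψ (vv B c) ∈ q.asIdeal) : False := by
  let _ : Algebra (W B c) A := ψ.toAlgebra
  let _ : Algebra B A := (ψ.comp (algebraMap B (W B c))).toAlgebra
  have : IsScalarTower B (W B c) A := by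
    refine ⟨fun a b x => ?_⟩
    have e1 : (a • b : W B c) = algebraMap B (W B c) a * b := Algebra.smul_def a b
    rw [e1]
    change ψ (algebraMap B (W B c) a * b) * x = ψ (algebraMap B (W B c) a) * (ψ b * x)
    rw [map_mul, mul_assoc]
  have : Algebra.Smooth B A := hs
  have : Module.Flat (W B c) A := hf
  exact not_smooth (B := B) (c := c) q h0 h1

end NotSmooth

end K153.NodeAlg
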