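import Groth.Agent.EtAcyc.K153.TreeDef
import Groth.Agent.EtDl.K556.SncPoly
import Groth.Agent.EtDl.K852.PMod
import Mathlib.AlgebraicGeometry.Morphisms.Etale
import Mathlib.AlgebraicGeometry.Morphisms.Smooth
import Mathlib.AlgebraicGeometry.Noetherian
import Mathlib.AlgebraicGeometry.Morphisms.UniversallyOpen
import Mathlib.AlgebraicGeometry.Morphisms.FlatDescent

/-!
# Strong certificates: formal properties (compare `K556.CertBasic`)
-/

set_option autoImplicit false
universe u

open CategoryTheory CategoryTheory.Limits AlgebraicGeometry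

namespace K153.STreeBasic

open K153.TreeDef K556.CertDef K556.SncAlg K556.SncPoly

theorem STree.of_iso {X Y : Scheme.{u}} (f : Y ⟶ X) [IsIso f] (V : X.Opens) (h : STree Y (f ⁻¹ᵁ V)) : STree X V :=
  STree.etale (k := 1) V (fun _ => Y) (fun _ => f) (fun _ => inferInstance) (fun _ => inferInstance)
    (fun x => ⟨0, f.surjective x⟩) (fun _ => h)

theorem STree.of_etale_pointwise {X : Scheme.{u}} [CompactSpace X] (V : X.Opens)
    (h : ∀ x : X, ∃ (Y : Scheme.{u}) (f : Y ⟶ X), Etale f ∧ QuasiCompact f ∧ x ∈ Set.range f ∧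
      STree Y (f ⁻¹ᵁ V)) : STree X V := by
  choose Y f h1 h2 h3 h4 using h
  have hopen : ∀ x, IsOpen (Set.range (f x)) := fun x => (f x).isOpenMap.isOpen_range
  obtain ⟨t, ht⟩ := isCompact_univ.elim_finite_subcover (fun x => Set.range (f x)) hopen
    (fun x _ => Set.mem_iUnion.2 ⟨x, h3 x⟩)
  let e := t.equivFin
  refine STree.etale (k := t.card) V (fun a => Y (e.symm a)) (fun a => f (e.symm a)) (fun a => h1 _)
    (fun a => h2 _) (fun x => ?_) (fun a => h4 _)
  obtain ⟨y, hy, hxy⟩ := Set.mem_iUnion₂.1 (ht (Set.mem_univ x))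
  refine ⟨e ⟨y, hy⟩, ?_⟩
  rw [e.symm_apply_apply]
  exact hxy

theorem STree.of_isEmpty {X : Scheme.{u}} [IsEmpty X] (V : X.Opens) : STree X V :=
  STree.etale (k := 0) V (fun a => a.elim0) (fun a => a.elim0) (fun a => a.elim0) (fun a => a.elim0)
    (fun x => isEmptyElim x) (fun a => a.elim0)

/-- A regular algebra over a leaf. -/
theorem leaf_of_regular {R : Type u} [CommRing R] {ι : Type} [Finite ι] {z : ι → R} (h : SNC R z)
    (V : (Spec (CommRingCat.of R)).Opens)
    (hV : ∀ p : Spec (CommRingCat.of R), (∀ i, z i ∉ p.asIdeal) → p ∈ V)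
    (A : Type u) [CommRing A] [IsNoetherianRing A] [Algebra R A] (hA : CAlg.IsRegularHom R A) :
    STree (Spec (CommRingCat.of A)) (Spec.map (CommRingCat.ofHom (algebraMap R A)) ⁻¹ᵁ V) := by
  refine STree.leaf A (fun i => algebraMap R A (z i)) (SNC.map h hA) _ fun p hp => ?_
  exact hV _ fun i hi => hp i hi

/-- A smooth algebra over a leaf. -/
theorem leaf_of_smooth {R : Type u} [CommRing R] {ι : Type} [Finite ι] {z : ι → R} (h : SNC R z)
    (V : (Spec (CommRingCat.of R)).Opens)
    (hV : ∀ p : Spec (CommRingCat.of R), (∀ i, z i ∉ p.asIdeal) → p ∈ V)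
    {A : CommRingCat.{u}} (g : Spec A ⟶ Spec (CommRingCat.of R)) [Smooth g] :
    STree (Spec A) (g ⁻¹ᵁ V) := by
  obtain ⟨φ, rfl⟩ := Spec.map_surjective g
  have h1 : φ.hom.Smooth := HasRingHomProperty.Spec_iff.mp ‹_›
  algebraize [φ.hom]
  have := noeth h
  have h2 : IsNoetherianRing A := Algebra.FiniteType.isNoetherianRing R A
  exact leaf_of_regular h V hV A (Groth.Agent.Flat2G.SmoothRegNorm.isRegularHom_of_smooth R A)

/-- Étale base change. -/
theorem STree.etale_pullback {X : Scheme.{u}} {V : X.Opens} (h : STree X V) {X' : Scheme.{u}} (g : X' ⟶ X)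
    [Etale g] [QuasiCompact g] : STree X' (g ⁻¹ᵁ V) := by
  induction h generalizing X' with
  | leaf R z h V hV =>
    have : CompactSpace X' := QuasiCompact.compactSpace_of_compactSpace g
    have := noeth h
    have : IsLocallyNoetherian X' := LocallyOfFiniteType.isLocallyNoetherian g
    refine STree.of_etale_pointwise _ fun x => ?_
    obtain ⟨U, hU, hxU, -⟩ := exists_isAffineOpen_mem_and_subset (x := x) (U := ⊤) trivial
    refine ⟨Spec Γ(X', U), hU.fromSpec, inferInstance, inferInstance, ?_, ?_⟩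
    · rw [hU.range_fromSpec]; exact hxU
    · rw [← Scheme.Hom.comp_preimage]
      exact leaf_of_smooth h V hV (hU.fromSpec ≫ g)
  | @etale X V k Y f h1 h2 h3 h ih =>
    have h1' := h1
    have h2' := h2
    refine STree.etale _ (fun a => pullback g (f a)) (fun a => pullback.fst g (f a)) (fun a => inferInstance)
      (fun a => inferInstance) (fun x => ?_) (fun a => ?_)
    · obtain ⟨a, y, hy⟩ := h3 (g x)
      obtain ⟨w, hw1, hw2⟩ := Scheme.Pullback.exists_preimage_pullback x y hy.symm
      exact ⟨a, w, hw1⟩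
    · rw [← Scheme.Hom.comp_preimage, pullback.condition, Scheme.Hom.comp_preimage]
      exact ih a (pullback.snd g (f a))
  | @proper X V k Y f h1 h3 h ih =>
    have h1' := h1
    refine STree.proper _ (fun a => pullback g (f a)) (fun a => pullback.fst g (f a)) (fun a => inferInstance)
      (fun x => ?_) (fun a => ?_)
    · obtain ⟨a, y, hy⟩ := h3 (g x)
      obtain ⟨w, hw1, hw2⟩ := Scheme.Pullback.exists_preimage_pullback x y hy.symm
      exact ⟨a, w, hw1⟩
    · rw [← Scheme.Hom.comp_preimage, pullback.condition, Scheme.Hom.comp_preimage]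
      exact ih a (pullback.snd g (f a))

/-! ### Rings -/

/-- Certificates for all open subsets containing `D(f)`. -/
def SRes (R : Type u) [CommRing R] (f : R) : Prop :=
  ∀ V : (Spec (CommRingCat.of R)).Opens, (∀ p : Spec (CommRingCat.of R), f ∉ p.asIdeal → p ∈ V) →
    STree (Spec (CommRingCat.of R)) V

theorem SRes.leaf {R : Type u} [CommRing R] {ι : Type} [Fintype ι] {z : ι → R} (h : SNC R z) :
    SRes R (∏ i, z i) := by
  intro V hV
  refine STree.leaf R z h V fun p hp => hV p ?_
  rw [Ideal.IsPrime.prod_mem_iff]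
  rintro ⟨i, -, hi⟩
  exact hp i hi

theorem SRes.mono {R : Type u} [CommRing R] {f f' : R} (h : SRes R f)
    (hf : ∀ p : PrimeSpectrum R, f' ∈ p.asIdeal → f ∈ p.asIdeal) : SRes R f' :=
  fun V hV => h V fun p hp => hV p fun h' => hp (hf p h')

theorem SRes.of_pull {R : Type u} [CommRing R] {f : R} {V : (Spec (CommRingCat.of R)).Opens}
    (hV : ∀ p : Spec (CommRingCat.of R), f ∉ p.asIdeal → p ∈ V) {R' : Type u} [CommRing R'] (φ : R →+* R')
    (h : SRes R' (φ f)) : STree (Spec (CommRingCat.of R')) (Spec.map (CommRingCat.ofHom φ) ⁻¹ᵁ V) :=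
  h _ fun p hp => hV _ hp

theorem SRes.of_ringEquiv {R R' : Type u} [CommRing R] [CommRing R'] (e : R ≃+* R') {f : R} (h : SRes R' (e f)) :
    SRes R f := by
  intro V hV
  have : IsIso (Spec.map (CommRingCat.ofHom (e : R →+* R'))) := by
    have : IsIso (CommRingCat.ofHom (e : R →+* R')) := (RingEquiv.toCommRingCatIso e).isIso_hom
    infer_instance
  exact STree.of_iso (Spec.map (CommRingCat.ofHom (e : R →+* R'))) V (SRes.of_pull hV (e : R →+* R') h)

theorem SRes.of_etale_pointwise {R : Type u} [CommRing R] {f : R}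
    (h : ∀ p : PrimeSpectrum R, ∃ (R' : Type u) (_ : CommRing R') (_ : Algebra R R'), Algebra.Etale R R' ∧
      (∃ q : PrimeSpectrum R', q.comap (algebraMap R R') = p) ∧ SRes R' (algebraMap R R' f)) : SRes R f := by
  intro V hV
  refine STree.of_etale_pointwise V fun p => ?_
  obtain ⟨R', _, _, h1, ⟨q, hq⟩, h2⟩ := h p
  refine ⟨Spec (CommRingCat.of R'), Spec.map (CommRingCat.ofHom (algebraMap R R')), ?_, inferInstance, ⟨q, hq⟩,
    SRes.of_pull hV _ h2⟩
  rw [HasRingHomProperty.Spec_iff (P := @Etale)]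
  exact RingHom.etale_algebraMap.2 h1

/-- Zariski covers. -/
theorem SRes.of_away_pointwise {R : Type u} [CommRing R] {f : R}
    (h : ∀ p : PrimeSpectrum R, ∃ s : R, s ∉ p.asIdeal ∧ ∃ (R' : Type u) (_ : CommRing R') (_ : Algebra R R'),
      IsLocalization.Away s R' ∧ SRes R' (algebraMap R R' f)) : SRes R f := by
  refine SRes.of_etale_pointwise fun p => ?_
  obtain ⟨s, hs, R', _, _, h1, h2⟩ := h p
  refine ⟨R', _, _, Algebra.Etale.of_isLocalizationAway s, ?_, h2⟩
  have h3 := PrimeSpectrum.localization_away_comap_range R' s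
  have h4 : p ∈ Set.range (PrimeSpectrum.comap (algebraMap R R')) := by
    rw [h3]; exact hs
  exact h4

/-- Open restriction. -/
theorem SRes.localizationAway {R : Type u} [CommRing R] {f : R} (h : SRes R f) (s : R) (R' : Type u) [CommRing R']
    [Algebra R R'] [IsLocalization.Away s R'] : SRes R' (algebraMap R R' f) := by
  intro V hV
  let g := Spec.map (CommRingCat.ofHom (algebraMap R R'))
  have hg : IsOpenImmersion g := IsOpenImmersion.of_isLocalization s
  let D : (Spec (CommRingCat.of R)).Opens := PrimeSpectrum.basicOpen f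
  let W : (Spec (CommRingCat.of R)).Opens := g ''ᵁ V ⊔ D
  have h1 : STree (Spec (CommRingCat.of R)) W := h W fun p hp => Or.inr hp
  have h2 : g ⁻¹ᵁ W = V := by
    ext p
    constructor
    · rintro (⟨q, hq, hqp⟩ | hp)
      · have : q = p := g.isOpenEmbedding.injective hqp
        exact this ▸ hq
      · exact hV p hp
    · intro hp
      exact Or.inl ⟨p, hp, rfl⟩
  rw [← h2]
  exact STree.etale_pullback h1 g

/-- Finite surjective covers. -/
theorem SRes.of_finite {R : Type u} [CommRing R] {f : R} {R' : Type u} [CommRing R'] [Algebra R R']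
    [Module.Finite R R'] (hs : ∀ p : PrimeSpectrum R, ∃ q : PrimeSpectrum R', q.comap (algebraMap R R') = p)
    (h : SRes R' (algebraMap R R' f)) : SRes R f := by
  intro V hV
  let g := Spec.map (CommRingCat.ofHom (algebraMap R R'))
  have hfin : IsFinite g := by
    rw [IsFinite.SpecMap_iff]
    exact RingHom.finite_algebraMap.2 inferInstance
  exact STree.proper (k := 1) V (fun _ => _) (fun _ => g) (fun _ => inferInstance) (fun x => ⟨0, hs x⟩)
    (fun _ => SRes.of_pull hV _ h)

open K852.PMod in
/-- The `P^1`-modification and certificates. -/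
theorem pmodTree {R : Type u} [CommRing R] (a b c d : R) (h : a * d = b * c)
    (V : (Spec (CommRingCat.of R)).Opens)
    (h0 : STree (Spec (CommRingCat.of (T0 a b c d)))
      (Spec.map (CommRingCat.ofHom (algebraMap R (T0 a b c d))) ⁻¹ᵁ V))
    (h1 : STree (Spec (CommRingCat.of (T1 a b c d)))
      (Spec.map (CommRingCat.ofHom (algebraMap R (T1 a b c d))) ⁻¹ᵁ V)) :
    STree (Spec (CommRingCat.of R)) V := by
  obtain ⟨X', p, i0, i1, hp, hs, hi0, hi1, hc, e0, e1⟩ := exists_modification a b c d h
  have hM : STree X' (p ⁻¹ᵁ V) := by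
    let Y : Fin 2 → Scheme.{u} := Fin.cases (Spec (CommRingCat.of (T0 a b c d)))
      (fun _ => Spec (CommRingCat.of (T1 a b c d)))
    let f : ∀ j : Fin 2, Y j ⟶ X' := Fin.cases i0 (fun _ => i1)
    have hf : ∀ j, IsOpenImmersion (f j) := by
      refine Fin.cases ?_ ?_
      · exact hi0
      · intro _
        exact hi1
    refine STree.etale _ Y f (fun j => ?_) (fun j => ?_) (fun x => ?_) ?_
    · have := hf j
      infer_instance
    · refine Fin.cases ?_ (fun k => ?_) j
      · change QuasiCompact i0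
        have h2 : QuasiCompact (i0 ≫ p) := by
          rw [e0]
          infer_instance
        exact QuasiCompact.of_comp _ p
      · change QuasiCompact i1
        have h2 : QuasiCompact (i1 ≫ p) := by
          rw [e1]
          infer_instance
        exact QuasiCompact.of_comp _ p
    · rcases hc x with hx | hx
      · exact ⟨0, hx⟩
      · exact ⟨1, hx⟩
    · refine Fin.cases ?_ (fun k => ?_)
      · change STree _ (i0 ⁻¹ᵁ (p ⁻¹ᵁ V))
        rw [← Scheme.Hom.comp_preimage, e0]
        exact h0
      · change STree _ (i1 ⁻¹ᵁ (p ⁻¹ᵁ V))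
        rw [← Scheme.Hom.comp_preimage, e1]
        exact h1
  exact STree.proper V (fun _ : Fin 1 => X') (fun _ => p) (fun _ => hp)
    (fun x => ⟨0, hs x⟩) (fun _ => hM)

/-- The `P^1`-modification. -/
theorem SRes.pmod {R : Type u} [CommRing R] {f : R} (a b c d : R) (habcd : a * d = b * c)
    (h0 : SRes (K852.PMod.T0 a b c d) (algebraMap R _ f)) (h1 : SRes (K852.PMod.T1 a b c d) (algebraMap R _ f)) :
    SRes R f :=
  fun V hV => pmodTree a b c d habcd V (SRes.of_pull hV _ h0) (SRes.of_pull hV _ h1)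

end K153.STreeBasic
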