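import Groth.Agent.EtAcyc.K153.TreeDef

/-!
# Base change of relative certificates
-/

set_option autoImplicit false
universe u

open CategoryTheory CategoryTheory.Limits AlgebraicGeometry

namespace K153.TreeBase

open K153.TreeDef

/-- The square of affine spaces over a pull-back square. -/
theorem isPullback_homOfVector {T T' X X' : Scheme.{u}} {f : X ⟶ T} {t : T' ⟶ T} {f' : X' ⟶ T'} {g : X' ⟶ X}
    (hX : IsPullback g f' f t) {n : Type u} (v : n → Γ(X, ⊤)) :
    IsPullback g (AffineSpace.homOfVector f' (fun i => g.appTop (v i))) (AffineSpace.homOfVector f v)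
      (AffineSpace.map n t) := by
  have h1 : IsPullback (AffineSpace.map n t) (𝔸(n; T') ↘ T') (𝔸(n; T) ↘ T) t := AffineSpace.isPullback_map t
  refine IsPullback.of_bot (v₂₁ := 𝔸(n; T') ↘ T') (v₂₂ := 𝔸(n; T) ↘ T) (h₃₁ := t) ?_ ?_ h1
  · rw [AffineSpace.homOfVector_over, AffineSpace.homOfVector_over]
    exact hX
  · apply AffineSpace.hom_ext
    · rw [Category.assoc, AffineSpace.homOfVector_over, Category.assoc, AffineSpace.map_over,
        AffineSpace.homOfVector_over_assoc, hX.w]
    · intro i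
      rw [Scheme.Hom.comp_appTop, Scheme.Hom.comp_appTop, CommRingCat.comp_apply, CommRingCat.comp_apply,
        AffineSpace.homOfVector_appTop_coord, AffineSpace.map_appTop_coord, AffineSpace.homOfVector_appTop_coord]

/-- Relative certificates are stable under base change. -/
theorem baseChange {T T' X : Scheme.{u}} {f : X ⟶ T} {V : X.Opens} (h : Tree T X f V) (t : T' ⟶ T) :
    ∀ {X' : Scheme.{u}} (f' : X' ⟶ T') (g : X' ⟶ X) (_ : IsPullback g f' f t), Tree T' X' f' (g ⁻¹ᵁ V) := by
  induction h with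
  | leaf X f V n hn v J h hV =>
    intro X' f' g hX
    refine Tree.leaf X' f' _ n hn (fun i => g.appTop (v i)) J ?_ fun x => ?_
    · exact MorphismProperty.of_isPullback (P := @Etale) (isPullback_homOfVector hX v) h
    · rw [Scheme.Hom.mem_preimage, hV]
      refine forall₂_congr fun i _ => ?_
      rw [← Scheme.preimage_basicOpen_top]
      rfl
  | etale f V Y gY h1 h2 h3 h ih =>
    intro X' f' g hX
    have hp : ∀ a, IsPullback (pullback.fst (gY a) g) (pullback.snd (gY a) g) (gY a) g := fun a => .of_hasPullback _ _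
    refine Tree.etale f' _ (fun a => pullback (gY a) g) (fun a => pullback.snd (gY a) g)
      (fun a => MorphismProperty.of_isPullback (P := @Etale) (hp a) (h1 a))
      (fun a => MorphismProperty.of_isPullback (P := @QuasiCompact) (hp a) (h2 a)) (fun x => ?_) (fun a => ?_)
    · obtain ⟨a, y, hy⟩ := h3 (g x)
      obtain ⟨z, hz1, hz2⟩ := Scheme.Pullback.exists_preimage_pullback y x hy
      exact ⟨a, z, hz2⟩
    · have h4 := ih a (pullback.snd (gY a) g ≫ f') (pullback.fst (gY a) g) ((hp a).paste_vert hX)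
      rw [← Scheme.Hom.comp_preimage, (hp a).w, Scheme.Hom.comp_preimage] at h4
      exact h4
  | proper f V Y gY h1 h3 h ih =>
    intro X' f' g hX
    have hp : ∀ a, IsPullback (pullback.fst (gY a) g) (pullback.snd (gY a) g) (gY a) g := fun a => .of_hasPullback _ _
    refine Tree.proper f' _ (fun a => pullback (gY a) g) (fun a => pullback.snd (gY a) g)
      (fun a => MorphismProperty.of_isPullback (P := @IsProper) (hp a) (h1 a)) (fun x hx => ?_) (fun a => ?_)
    · obtain ⟨a, y, hy⟩ := h3 (g x) hx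
      obtain ⟨z, hz1, hz2⟩ := Scheme.Pullback.exists_preimage_pullback y x hy
      exact ⟨a, z, hz2⟩
    · have h4 := ih a (pullback.snd (gY a) g ≫ f') (pullback.fst (gY a) g) ((hp a).paste_vert hX)
      rw [← Scheme.Hom.comp_preimage, (hp a).w, Scheme.Hom.comp_preimage] at h4
      exact h4

/-- Invariance under isomorphisms of the source. -/
theorem of_iso {T X Y : Scheme.{u}} (e : Y ⟶ X) [IsIso e] (f : X ⟶ T) (V : X.Opens)
    (h : Tree T Y (e ≫ f) (e ⁻¹ᵁ V)) : Tree T X f V :=
  Tree.etale (k := 1) f V (fun _ => Y) (fun _ => e) (fun _ => inferInstance) (fun _ => inferInstance)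
    (fun x => ⟨0, e.surjective x⟩) (fun _ => h)

/-- Pull-back of a local equation. -/
theorem LocPrinc.preimage {X Y : Scheme.{u}} {V : X.Opens} (h : LocPrinc V) (g : Y ⟶ X) : LocPrinc (g ⁻¹ᵁ V) := by
  intro y
  obtain ⟨W, hW, a, hy, ha⟩ := h (g y)
  obtain ⟨_, ⟨W', hW', rfl⟩, hyW', hW'W⟩ :=
    Y.isBasis_affineOpens.exists_subset_of_mem_open (show y ∈ ((g ⁻¹ᵁ W : Y.Opens) : Set Y) from hy)
      (g ⁻¹ᵁ W).isOpen
  have hle : W' ≤ g ⁻¹ᵁ W := hW'W
  refine ⟨W', hW', (g.appLE W W' hle) a, hyW', fun z hz => ?_⟩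
  have h1 := ha (g z) (hle hz)
  rw [Scheme.Hom.mem_preimage, h1]
  constructor
  · intro h2
    rw [Scheme.basicOpen_appLE]
    exact ⟨hz, h2⟩
  · intro h2
    rw [Scheme.basicOpen_appLE] at h2
    exact h2.2

end K153.TreeBase
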