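import Groth.Agent.EtDl.K556.CertDef
import Mathlib.AlgebraicGeometry.AffineSpace

/-!
# Tree certificates

* `STree X V`: a finite tree of étale covers and of families of proper morphisms, jointly surjective on the whole
  scheme, with leaves `Spec R`, `R` regular with a strict normal crossings family `z` (`K556.CertDef.SNC`), such that
  `V` contains the complement of `∏ z_i = 0`.
* `Tree T X f V`: a finite tree of étale covers and of families of proper morphisms, jointly surjective over `V`, with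
  leaves étale over an affine space over `T`, `V` being exactly the locus where some of the coordinates are invertible.
* `LocPrinc V`: locally the complement of `V` is given by one equation.
-/

set_option autoImplicit false
universe u

open CategoryTheory CategoryTheory.Limits AlgebraicGeometry

namespace K153.TreeDef

open K556.CertDef

/-- Strong certificates: the families are jointly surjective everywhere. -/
inductive STree : ∀ (X : Scheme.{u}), X.Opens → Prop
  | leaf (R : Type u) [CommRing R] {ι : Type} [Finite ι] (z : ι → R) (h : SNC R z)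
      (V : (Spec (CommRingCat.of R)).Opens)
      (hV : ∀ p : Spec (CommRingCat.of R), (∀ i, z i ∉ p.asIdeal) → p ∈ V) :
      STree (Spec (CommRingCat.of R)) V
  | etale {X : Scheme.{u}} (V : X.Opens) {k : ℕ} (Y : Fin k → Scheme.{u}) (f : ∀ a, Y a ⟶ X)
      (h1 : ∀ a, Etale (f a)) (h2 : ∀ a, QuasiCompact (f a)) (h3 : ∀ x : X, ∃ a, x ∈ Set.range (f a))
      (h : ∀ a, STree (Y a) ((f a) ⁻¹ᵁ V)) : STree X V
  | proper {X : Scheme.{u}} (V : X.Opens) {k : ℕ} (Y : Fin k → Scheme.{u}) (f : ∀ a, Y a ⟶ X)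
      (h1 : ∀ a, IsProper (f a)) (h3 : ∀ x : X, ∃ a, x ∈ Set.range (f a))
      (h : ∀ a, STree (Y a) ((f a) ⁻¹ᵁ V)) : STree X V

/-- Relative certificates over `T`. -/
inductive Tree (T : Scheme.{u}) : ∀ (X : Scheme.{u}) (_ : X ⟶ T), X.Opens → Prop
  | leaf (X : Scheme.{u}) (f : X ⟶ T) (V : X.Opens) (n : Type u) (hn : Finite n) (t : n → Γ(X, ⊤)) (J : Set n)
      (h : Etale (AffineSpace.homOfVector f t))
      (hV : ∀ x : X, x ∈ V ↔ ∀ i ∈ J, x ∈ X.basicOpen (t i)) : Tree T X f V
  | etale {X : Scheme.{u}} (f : X ⟶ T) (V : X.Opens) {k : ℕ} (Y : Fin k → Scheme.{u}) (g : ∀ a, Y a ⟶ X)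
      (h1 : ∀ a, Etale (g a)) (h2 : ∀ a, QuasiCompact (g a)) (h3 : ∀ x : X, ∃ a, x ∈ Set.range (g a))
      (h : ∀ a, Tree T (Y a) (g a ≫ f) ((g a) ⁻¹ᵁ V)) : Tree T X f V
  | proper {X : Scheme.{u}} (f : X ⟶ T) (V : X.Opens) {k : ℕ} (Y : Fin k → Scheme.{u}) (g : ∀ a, Y a ⟶ X)
      (h1 : ∀ a, IsProper (g a)) (h3 : ∀ x ∈ V, ∃ a, x ∈ Set.range (g a))
      (h : ∀ a, Tree T (Y a) (g a ≫ f) ((g a) ⁻¹ᵁ V)) : Tree T X f V

/-- Locally the complement of `V` is given by one equation. -/
def LocPrinc {X : Scheme.{u}} (V : X.Opens) : Prop :=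
  ∀ x : X, ∃ (W : X.Opens) (_ : IsAffineOpen W) (a : Γ(X, W)), x ∈ W ∧ ∀ y ∈ W, (y ∈ V ↔ y ∈ X.basicOpen a)

end K153.TreeDef
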