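import Groth.Agent.EtAcyc.K153.LocDef
import Groth.Agent.EtAcyc.K153.TreeCurve
import Groth.Agent.EtAcyc.K616.TreeDim
import Groth.Agent.SSMod.K971.BaseChange

/-!
# Strong certificates for integral schemes of finite type over an algebraically closed field

The nodes FIB, FLAT, SS, LOC are hypotheses here.
-/

set_option autoImplicit false
universe u

open CategoryTheory CategoryTheory.Limits AlgebraicGeometry

namespace K153.TreeStrong

open K153.TreeDef K153.TreeCurve K556.CertDef K153.STreeBasic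

/-- Node FIB. -/
def FIB (K : Type u) [Field K] : Prop :=
  ∀ {X : Scheme.{u}} [IsIntegral X] [IsAffine X]
    (p : X ⟶ Spec (CommRingCat.of K)) [LocallyOfFiniteType p] (d : ℕ)
    (_ : topologicalKrullDim X = ((d + 1 : ℕ) : WithBot ℕ∞)) (V : X.Opens) (_ : (V : Set X).Nonempty),
    ∃ (B X' D : Scheme.{u}) (_ : IsIntegral B) (_ : IsAffine B) (_ : IsIntegral X')
      (q : B ⟶ Spec (CommRingCat.of K)) (g : X' ⟶ X) (π : X' ⟶ B) (i : D ⟶ X') (U : B.Opens),
      LocallyOfFiniteType q ∧ topologicalKrullDim B = (d : WithBot ℕ∞) ∧ IsFinite g ∧ Surjective g ∧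
      π ≫ q = g ≫ p ∧ PreCurve π i U ∧ ∀ x : X', π x ∈ U → x ∉ Set.range i → g x ∈ V

/-- Node FLAT. -/
def FLAT (K : Type u) [Field K] : Prop :=
  ∀ {B X D : Scheme.{u}} [IsIntegral B] [IsNoetherian B] [IsIntegral X]
    (q : B ⟶ Spec (CommRingCat.of K)) [LocallyOfFiniteType q] (π : X ⟶ B)
    [LocallyOfFiniteType π] [QuasiCompact π] (i : D ⟶ X) (U : B.Opens) (_ : PreCurve π i U),
    ∃ (B₂ X₂ D₂ : Scheme.{u}) (_ : IsIntegral B₂) (_ : IsIntegral X₂) (b : B₂ ⟶ B) (g : X₂ ⟶ X)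
      (π₂ : X₂ ⟶ B₂) (i₂ : D₂ ⟶ X₂) (U₂ : B₂.Opens), IsProper b ∧ Surjective b ∧
      (∃ W : B.Opens, (W : Set B).Nonempty ∧ IsIso (b ∣_ W)) ∧ IsProper g ∧ Surjective g ∧ g ≫ π = π₂ ≫ b ∧
      SSMod.IsMPCurve π₂ i₂ ∧ PreCurve π₂ i₂ U₂ ∧
      ∀ x : X₂, π₂ x ∈ U₂ → g x ∈ Set.range i → x ∈ Set.range i₂

/-- Node SS. -/
def SS : Prop :=
  ∀ {B X D : Scheme.{u}} [IsIntegral B] [IsNoetherian B] [IsIntegral X] (π : X ⟶ B)
    (i : D ⟶ X) (_ : SSMod.IsMPCurve π i) (U : B.Opens) (_ : PreCurve π i U),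
    ∃ (B₃ C D' : Scheme.{u}) (_ : IsIntegral B₃) (b : B₃ ⟶ B) (g : C ⟶ X) (π' : C ⟶ B₃) (i' : D' ⟶ C)
      (U₃ : B₃.Opens), IsProper b ∧ Surjective b ∧
      (∃ W : B.Opens, (W : Set B).Nonempty ∧ IsFinite (b ∣_ W)) ∧ IsProper g ∧ Surjective g ∧ g ≫ π = π' ≫ b ∧
      SSMod.IsSemistable π' i' ∧ (U₃ : Set B₃).Nonempty ∧ Smooth (π' ∣_ U₃) ∧
      ∀ x : C, π' x ∈ U₃ → g x ∈ Set.range i → x ∈ Set.range i'

/-- Node LOC. -/
def LOC : Prop :=
  ∀ {R : Type u} [CommRing R] {ι : Type} [Finite ι] {z : ι → R} (_ : SNC R z) {C D : Scheme.{u}}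
    (π : C ⟶ Spec (CommRingCat.of R)) (i : D ⟶ C) (_ : SSMod.IsSemistable π i)
    (_ : ∀ x : C, (∀ k, z k ∉ (π x).asIdeal) → x ∉ DualGr.nonsmoothPts π) (V : C.Opens)
    (_ : ∀ x : C, (∀ k, z k ∉ (π x).asIdeal) → x ∉ Set.range i → x ∈ V), STree C V

/-- The step along a strong certificate of the base. -/
theorem stree_of_base (hloc : LOC.{u}) {Y : Scheme.{u}} {W : Y.Opens} (h : STree Y W) :
    ∀ {C D : Scheme.{u}} (π : C ⟶ Y) (i : D ⟶ C) (_ : SSMod.IsSemistable π i)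
      (_ : ∀ x : C, π x ∈ W → x ∉ DualGr.nonsmoothPts π) (V : C.Opens)
      (_ : ∀ x, π x ∈ W → x ∉ Set.range i → x ∈ V), STree C V := by
  have key : ∀ {C D Y Y' : Scheme.{u}} {W : Y.Opens} (π : C ⟶ Y) (i : D ⟶ C) (_ : SSMod.IsSemistable π i)
      (_ : ∀ x : C, π x ∈ W → x ∉ DualGr.nonsmoothPts π) (V : C.Opens)
      (_ : ∀ x, π x ∈ W → x ∉ Set.range i → x ∈ V) (f : Y' ⟶ Y),
      SSMod.IsSemistable (pullback.snd π f) (pullback.snd i (pullback.fst π f)) ∧
      (∀ x : ↥(pullback π f), pullback.snd π f x ∈ f ⁻¹ᵁ W → x ∉ DualGr.nonsmoothPts (pullback.snd π f)) ∧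
      (∀ x : ↥(pullback π f), pullback.snd π f x ∈ f ⁻¹ᵁ W → x ∉ Set.range (pullback.snd i (pullback.fst π f)) →
        x ∈ pullback.fst π f ⁻¹ᵁ V) := by
    intro C D Y Y' W π i hss hsm V hV f
    have hfp : LocallyOfFinitePresentation π := hss.1.2.1
    have hc : ∀ x : ↥(pullback π f), π (pullback.fst π f x) = f (pullback.snd π f x) := fun x => by
      rw [← Scheme.Hom.comp_apply, ← Scheme.Hom.comp_apply, pullback.condition]
    refine ⟨K971.SSBaseChange.isSemistable_of_isPullback hss (IsPullback.of_hasPullback π f)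
      (IsPullback.of_hasPullback i (pullback.fst π f)), fun x hx hxn => ?_, fun x hx hxn => ?_⟩
    · refine hsm (pullback.fst π f x) ?_
        (K971.SSBaseChange.nonsmoothPts_of_isPullback (IsPullback.of_hasPullback π f) hxn)
      rw [hc]
      exact hx
    · refine hV _ ?_ ?_
      · rw [hc]
        exact hx
      · rintro ⟨d, hd⟩
        obtain ⟨w, -, hw⟩ := Scheme.Pullback.exists_preimage_pullback (f := i) (g := pullback.fst π f) d x hd
        exact hxn ⟨w, hw⟩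
  induction h with
  | leaf R z h W hW =>
    intro C D π i hss hsm V hV
    exact hloc h π i hss (fun x hx => hsm x (hW _ hx)) V fun x hx hxi => hV x (hW _ hx) hxi
  | @etale Y W k Z f h1 h2 h3 h ih =>
    intro C D π i hss hsm V hV
    have h1' := h1
    have h2' := h2
    refine STree.etale _ (fun a => pullback π (f a)) (fun a => pullback.fst π (f a)) (fun a => inferInstance)
      (fun a => inferInstance) (fun x => ?_) (fun a => ?_)
    · obtain ⟨a, y, hy⟩ := h3 (π x)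
      obtain ⟨w, hw1, hw2⟩ := Scheme.Pullback.exists_preimage_pullback x y hy.symm
      exact ⟨a, w, hw1⟩
    · obtain ⟨k1, k2, k3⟩ := key π i hss hsm V hV (f a)
      exact ih a _ _ k1 k2 _ k3
  | @proper Y W k Z f h1 h3 h ih =>
    intro C D π i hss hsm V hV
    have h1' := h1
    refine STree.proper _ (fun a => pullback π (f a)) (fun a => pullback.fst π (f a)) (fun a => inferInstance)
      (fun x => ?_) (fun a => ?_)
    · obtain ⟨a, y, hy⟩ := h3 (π x)
      obtain ⟨w, hw1, hw2⟩ := Scheme.Pullback.exists_preimage_pullback x y hy.symm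
      exact ⟨a, w, hw1⟩
    · obtain ⟨k1, k2, k3⟩ := key π i hss hsm V hV (f a)
      exact ih a _ _ k1 k2 _ k3

theorem PreCurve.mono {B X D : Scheme.{u}} {π : X ⟶ B} {i : D ⟶ X} {U U' : B.Opens} (h : PreCurve π i U)
    (hle : U' ≤ U) (hne : (U' : Set B).Nonempty) : PreCurve π i U' := by
  have key : ∀ {Z : Scheme.{u}} (f : Z ⟶ B),
      IsPullback (Z.homOfLE (f.preimage_mono hle)) (f ∣_ U') (f ∣_ U) (B.homOfLE hle) := by
    intro Z f
    have h1 := isPullback_morphismRestrict f U'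
    refine IsPullback.of_right ?_ ?_ (isPullback_morphismRestrict f U).flip
    · simpa using h1.flip
    · rw [← cancel_mono U.ι, Category.assoc, Category.assoc, morphismRestrict_ι, Scheme.homOfLE_ι,
        Scheme.homOfLE_ι_assoc, morphismRestrict_ι]
  have := h.smooth
  exact ⟨h.dom, h.closed, hne, MorphismProperty.of_isPullback (key π) h.smooth,
    K308.Grp.hasRelDim_of_isPullback (key π).flip h.rel, MorphismProperty.of_isPullback (key (i ≫ π)) h.etale⟩

theorem smooth_mono {B X : Scheme.{u}} {π : X ⟶ B} {U U' : B.Opens} (h : Smooth (π ∣_ U))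
    (hle : U' ≤ U) : Smooth (π ∣_ U') := by
  have h1 := isPullback_morphismRestrict π U'
  have key : IsPullback (X.homOfLE (π.preimage_mono hle)) (π ∣_ U') (π ∣_ U) (B.homOfLE hle) := by
    refine IsPullback.of_right ?_ ?_ (isPullback_morphismRestrict π U).flip
    · simpa using h1.flip
    · rw [← cancel_mono U.ι, Category.assoc, Category.assoc, morphismRestrict_ι, Scheme.homOfLE_ι,
        Scheme.homOfLE_ι_assoc, morphismRestrict_ι]
  exact MorphismProperty.of_isPullback key h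

theorem notMem_nonsmoothPts {B X : Scheme.{u}} {π : X ⟶ B} [LocallyOfFinitePresentation π] {U : B.Opens}
    (h : Smooth (π ∣_ U)) {x : X} (hx : π x ∈ U) : x ∉ DualGr.nonsmoothPts π := by
  have h1 : (π.stalkMap x).hom.FormallySmooth := by
    refine (Groth.Agent.UnramA.NearPoint.exists_smooth_nhd_iff π x).1 ⟨π ⁻¹ᵁ U, hx, ?_⟩
    rw [← morphismRestrict_ι]
    infer_instance
  exact fun h2 => h2 h1

/-- The strong claim in dimension at most `d`. -/
def Claim (K : Type u) [Field K] (d : ℕ) : Prop :=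
  ∀ (X : Scheme.{u}) [IsIntegral X] (p : X ⟶ Spec (CommRingCat.of K)) [LocallyOfFiniteType p] [QuasiCompact p]
    (_ : topologicalKrullDim X ≤ (d : WithBot ℕ∞)) (V : X.Opens) (_ : (V : Set X).Nonempty), STree X V

/-- Passing to affine opens. -/
theorem claim_of_affine (K : Type u) [Field K] (d : ℕ)
    (h : ∀ (X : Scheme.{u}) [IsIntegral X] [IsAffine X] (p : X ⟶ Spec (CommRingCat.of K)) [LocallyOfFiniteType p]
      (_ : topologicalKrullDim X ≤ (d : WithBot ℕ∞)) (V : X.Opens) (_ : (V : Set X).Nonempty), STree X V) :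
    Claim K d := by
  intro X _ p _ _ hd V hV
  have : CompactSpace X := QuasiCompact.compactSpace_of_compactSpace p
  have : IsLocallyNoetherian X := LocallyOfFiniteType.isLocallyNoetherian p
  refine STree.of_etale_pointwise V fun x => ?_
  obtain ⟨U, hU, hxU, -⟩ := exists_isAffineOpen_mem_and_subset (x := x) (U := ⊤) trivial
  have hne : Nonempty U := ⟨⟨x, hxU⟩⟩
  refine ⟨U, U.ι, inferInstance, inferInstance, ⟨⟨x, hxU⟩, rfl⟩, ?_⟩
  have : IsAffine U := hU
  refine h U (U.ι ≫ p) ?_ _ ?_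
  · rw [K616.TreeDim.dim_open p U ⟨x, hxU⟩]
    exact hd
  · obtain ⟨y, hy1, hy2⟩ := nonempty_preirreducible_inter U.2 V.2 ⟨x, hxU⟩ hV
    exact ⟨⟨y, hy1⟩, hy2⟩

/-- Dimension zero. -/
theorem claim_zero (K : Type u) [Field K] : Claim K 0 := by
  refine claim_of_affine K 0 fun X _ _ p _ hd V hV => ?_
  have h0 : Ring.KrullDimLE 0 Γ(X, ⊤) := by
    rw [Ring.krullDimLE_iff, ← PrimeSpectrum.topologicalKrullDim_eq_ringKrullDim]
    refine le_trans (le_of_eq ?_) hd
    exact (X.isoSpec.hom.homeomorph.isHomeomorph.topologicalKrullDim_eq).symm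
  have hf : IsField Γ(X, ⊤) := Ring.KrullDimLE.isField_of_isDomain
  have hV' : V = ⊤ := by
    obtain ⟨v, hv⟩ := hV
    refine top_le_iff.1 fun x _ => ?_
    have : Subsingleton (PrimeSpectrum Γ(X, ⊤)) := by
      let _ := hf.toField
      infer_instance
    have h1 : X.isoSpec.hom x = X.isoSpec.hom v := Subsingleton.elim (α := PrimeSpectrum Γ(X, ⊤)) _ _
    have h2 : x = v := X.isoSpec.hom.isOpenEmbedding.injective h1
    exact h2 ▸ hv
  refine STree.of_iso X.isoSpec.inv V ?_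
  have hsnc : SNC Γ(X, ⊤) (fun i : Fin 0 => (i.elim0 : Γ(X, ⊤))) := by
    let _ := hf.toField
    refine ⟨fun J => ?_, fun J i => i.elim0⟩
    have hJ : Ideal.span ((fun i : Fin 0 => (i.elim0 : Γ(X, ⊤))) '' J) = ⊥ := by
      rw [Ideal.span_eq_bot]
      rintro _ ⟨i, -, -⟩
      exact i.elim0
    rw [hJ]
    exact IsRegularRing.of_ringEquiv (RingEquiv.quotientBot Γ(X, ⊤)).symm
  refine STree.leaf Γ(X, ⊤) (fun i : Fin 0 => i.elim0) hsnc _ fun q _ => ?_
  rw [hV']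
  trivial

/-- The inductive step. -/
theorem claim_succ (K : Type u) [Field K] (hfib : FIB.{u} K) (hflat : FLAT.{u} K) (hss : SS.{u}) (hloc : LOC.{u})
    (d : ℕ) (ih : Claim K d) : Claim K (d + 1) := by
  refine claim_of_affine K (d + 1) fun X _ _ p _ hd V hV => ?_
  rcases hd.lt_or_eq with hlt | heq
  · have h1 : topologicalKrullDim X ≤ (d : WithBot ℕ∞) := by
      have h2 : topologicalKrullDim X < (d : WithBot ℕ∞) + 1 := by
        refine lt_of_lt_of_eq hlt ?_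
        push_cast
        rfl
      exact ENat.WithBot.lt_add_one_iff.1 h2
    exact ih X p h1 V hV
  obtain ⟨B, X', D, _, _, _, q, g, π, i, U, hq, hB, hg, hgs, hπq, hpre, hgV⟩ := hfib p d heq V hV
  have : IsLocallyNoetherian B := LocallyOfFiniteType.isLocallyNoetherian q
  have : IsNoetherian B := { }
  have : LocallyOfFiniteType π := by
    have : LocallyOfFiniteType (π ≫ q) := by
      rw [hπq]
      infer_instance
    exact locallyOfFiniteType_of_comp π q
  have : IsAffine X' := isAffine_of_isAffineHom g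
  obtain ⟨B₂, X₂, D₂, _, _, b, g₂, π₂, i₂, U₂, hb, hbs, ⟨W, hW, hWi⟩, hg₂, hg₂s, hsq, hmp, hpre₂, hcond₂⟩ :=
    hflat q π i U hpre
  have : IsLocallyNoetherian B₂ := LocallyOfFiniteType.isLocallyNoetherian b
  have : CompactSpace B₂ := QuasiCompact.compactSpace_of_compactSpace b
  have : IsNoetherian B₂ := { }
  have hne₂ : ((U₂ ⊓ b ⁻¹ᵁ U : B₂.Opens) : Set B₂).Nonempty := by
    obtain ⟨u, hu⟩ := hpre.nonempty
    obtain ⟨v, rfl⟩ := b.surjective u
    exact nonempty_preirreducible_inter U₂.2 (b ⁻¹ᵁ U).2 hpre₂.nonempty ⟨v, hu⟩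
  obtain ⟨B₃, C, D', _, b₃, g₃, π', i', U₃, hb₃, hb₃s, ⟨W₃, hW₃, hW₃i⟩, hg₃, hg₃s, hsq₃, hsem, hne₃, hsm, hcond₃⟩ :=
    hss π₂ i₂ hmp (U₂ ⊓ b ⁻¹ᵁ U) (PreCurve.mono hpre₂ inf_le_left hne₂)
  have hne₄ : ((U₃ ⊓ b₃ ⁻¹ᵁ (U₂ ⊓ b ⁻¹ᵁ U) : B₃.Opens) : Set B₃).Nonempty := by
    obtain ⟨u, hu⟩ := hne₂
    obtain ⟨v, rfl⟩ := b₃.surjective u
    exact nonempty_preirreducible_inter U₃.2 (b₃ ⁻¹ᵁ (U₂ ⊓ b ⁻¹ᵁ U)).2 hne₃ ⟨v, hu⟩
  have hd₂ : topologicalKrullDim B₂ ≤ (d : WithBot ℕ∞) := by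
    rw [← hB]
    exact K616.TreeDim.dim_le q b W hW inferInstance
  have hd₃ : topologicalKrullDim B₃ ≤ (d : WithBot ℕ∞) :=
    le_trans (K616.TreeDim.dim_le (b ≫ q) b₃ W₃ hW₃ hW₃i) hd₂
  have hT : STree B₃ (U₃ ⊓ b₃ ⁻¹ᵁ (U₂ ⊓ b ⁻¹ᵁ U)) := ih B₃ (b₃ ≫ b ≫ q) hd₃ _ hne₄
  have hfp : LocallyOfFinitePresentation π' := hsem.1.2.1
  have hC : STree C ((g₃ ≫ g₂ ≫ g) ⁻¹ᵁ V) := by
    refine stree_of_base hloc hT π' i' hsem (fun x hx => notMem_nonsmoothPts hsm hx.1) _ fun x hx hxi => ?_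
    have e1 : π₂ (g₃ x) = b₃ (π' x) := by
      have := congrArg (fun f => f x) hsq₃
      simpa using this
    have e2 : π (g₂ (g₃ x)) = b (π₂ (g₃ x)) := by
      have := congrArg (fun f => f (g₃ x)) hsq
      simpa using this
    have h3 : g₃ x ∉ Set.range i₂ := fun h => hxi (hcond₃ x hx.1 h)
    have h4 : g₂ (g₃ x) ∉ Set.range i := fun h => h3 (hcond₂ _ (by rw [e1]; exact hx.2.1) h)
    have h5 : g (g₂ (g₃ x)) ∈ V := hgV _ (by rw [e2, e1]; exact hx.2.2) h4
    simpa using h5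
  exact STree.proper (k := 1) V (fun _ => C) (fun _ => g₃ ≫ g₂ ≫ g) (fun _ => inferInstance)
    (fun x => ⟨0, (g₃ ≫ g₂ ≫ g).surjective x⟩) (fun _ => hC)

/-- Strong certificates for all integral schemes of finite type over a field. -/
theorem stree_of_isIntegral (K : Type u) [Field K] (hfib : FIB.{u} K) (hflat : FLAT.{u} K) (hss : SS.{u})
    (hloc : LOC.{u}) (X : Scheme.{u}) [IsIntegral X] (p : X ⟶ Spec (CommRingCat.of K)) [LocallyOfFiniteType p]
    [QuasiCompact p] (V : X.Opens) (hV : (V : Set X).Nonempty) : STree X V := by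
  have h1 : ∀ d, Claim K d := fun d => by
    induction d with
    | zero => exact claim_zero K
    | succ d ih => exact claim_succ K hfib hflat hss hloc d ih
  obtain ⟨d, hd⟩ : ∃ d : ℕ, topologicalKrullDim X ≤ (d : WithBot ℕ∞) := by
    let _ : X.Over (Spec (CommRingCat.of K)) := ⟨p⟩
    have : LocallyOfFiniteType (X ↘ Spec (CommRingCat.of K)) := ‹LocallyOfFiniteType p›
    exact ⟨_, (Groth.Agent.VarietyB.DimSch.topologicalKrullDim_eq_trd K).le⟩
  exact h1 d X p hd V hV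

end K153.TreeStrong
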