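import Groth.Agent.EtAcyc.K153.LocNode
import Groth.Agent.EtAcyc.K153.TreeStrong
import Groth.Agent.CurvesB.NodalExist460

/-!
# Node LOC, from the case of the points of the marked divisor
-/

set_option autoImplicit false
universe u

open CategoryTheory CategoryTheory.Limits AlgebraicGeometry

namespace K153.TreeLoc

open K153.TreeDef K153.STreeBasic K153.LocDef K153.LocNode K153.TreeStrong K556.CertDef
open Groth.Agent.CurvesB.MaxNodal Groth.Agent.CurvesB.NodalExist Groth.Agent.CurvesB.NodalPoint

/-- Nodal families have charts everywhere. -/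
theorem chart_of_isNodalFamily {X S : Scheme.{u}} (f : X ⟶ S) (hf : Curv2.IsNodalFamily f) (x : X) : Chart f x := by
  rcases pt_of_isNodalFamily f hf x with ⟨V, hV, h1⟩ | h
  · exact chart_of_openImmersion f V.ι (𝟙 S) (V.ι ≫ f) (Category.comp_id _).symm ⟨x, hV⟩
      (chart_of_smooth (V.ι ≫ f) ⟨x, hV⟩)
  · have := hf.1
    have := hf.2.1
    exact chart_of_isNode f x h

/-- Node LOC-SEC. -/
def SEC : Prop :=
  ∀ {R : Type u} [CommRing R] {ι : Type} [Finite ι] {z : ι → R} (_ : SNC R z) {C D : Scheme.{u}}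
    (π : C ⟶ Spec (CommRingCat.of R)) (i : D ⟶ C) (_ : SSMod.IsSemistable π i) (x : C) (_ : x ∈ Set.range i),
    LocAt z π (Set.range i) x

theorem loc_of_sec (hsec : SEC.{u}) : LOC.{u} := by
  intro R _ ι _ z h C D π i hss hsm V hV
  have := Fintype.ofFinite ι
  have h1 : LocallyOfFinitePresentation π := hss.1.2.1
  have h2 : QuasiCompact π := hss.1.2.2.1
  have h3 : QuasiSeparated π := hss.1.2.2.2.1
  have h4 : IsClosedImmersion i := hss.1.2.2.2.2.2.1
  refine stree_of_locAt (z := z) (π := π) (Z := Set.range i) (fun x => ?_) V hV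
  by_cases hx : x ∈ Set.range i
  · exact hsec h π i hss x hx
  · exact locAt_of_chart h π i.isClosedEmbedding.isClosed_range x hx (chart_of_isNodalFamily π hss.2.1 x) hsm

end K153.TreeLoc
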