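import Groth.Agent.EtAcyc.K153.TreeLoc
import Groth.Agent.EtAcyc.K153.TreeBase
import Groth.Agent.EtAcyc.K464.TreeSS
import Groth.Agent.EtAcyc.K101.TreeFlat
import Groth.Agent.EtAcyc.K602.Fib
import Groth.Agent.EtAcyc.K685.LocSec
import Groth.Agent.EtAcyc.K513.TreeGen
import Groth.Agent.EtAcyc.K922.TreeSpread
import Groth.Agent.EtAcyc.K843.TreeEnd

/-!
# Tree certificates in any characteristic

`exists_tree`: `S` integral Noetherian, `X ⟶ S` of finite type, `V` open in `X`. There is `S₁` integral Noetherian,
`g : S₁ ⟶ S` dominant of finite type, with `Tree S₁ (X ×_S S₁) (V ×_S S₁)`. The hypothesis `H15277` is the statement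
of S15277 (semistable reduction for multipointed curves).
-/

set_option autoImplicit false
universe u

open CategoryTheory CategoryTheory.Limits AlgebraicGeometry

namespace K153.TreeMain

open K153.TreeDef K153.TreeCurve K153.TreeStrong K153.TreeLoc

/-- Strong certificates for all integral schemes of finite type over an algebraically closed field. -/
theorem stree (H : H15277.{u}) (K : Type u) [Field K] [IsAlgClosed K]
    (X : Scheme.{u}) [IsIntegral X] (p : X ⟶ Spec (CommRingCat.of K)) [LocallyOfFiniteType p] [QuasiCompact p]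
    (V : X.Opens) (hV : (V : Set X).Nonempty) : STree X V :=
  stree_of_isIntegral K (fun p _ d hd V hV => K602.Fib.fib p d hd V hV) (K101.TreeFlat.flat) (K464.TreeSS.ss H)
    K685.LocSec.loc X p V hV

/-- Relative certificates over an algebraically closed field. -/
theorem tree (H : H15277.{u}) (K : Type u) [Field K] [IsAlgClosed K] (X : Scheme.{u})
    (p : X ⟶ Spec (CommRingCat.of K)) [LocallyOfFiniteType p] [QuasiCompact p] (V : X.Opens) :
    Tree (Spec (CommRingCat.of K)) X p V :=
  K513.TreeGen.tree_of_strong (fun X _ p _ _ V hV => stree H K X p V hV) X p V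

/-- Relative certificates over integral Noetherian schemes. -/
theorem exists_tree (H : H15277.{u}) {S X : Scheme.{u}} [IsIntegral S] [IsNoetherian S] (f : X ⟶ S)
    [LocallyOfFiniteType f] [QuasiCompact f] [QuasiSeparated f] (V : X.Opens) :
    ∃ (S₁ : Scheme.{u}) (_ : IsIntegral S₁) (_ : IsNoetherian S₁) (g : S₁ ⟶ S), IsDominant g ∧
      LocallyOfFiniteType g ∧ QuasiCompact g ∧
      Tree S₁ (pullback f g) (pullback.snd f g) (pullback.fst f g ⁻¹ᵁ V) :=
  K843.TreeEnd.exists_tree_of (fun {_} _ _ D c _ _ _ _ _ hc {_ _ _} h i₀ X₀ p₀ _ _ _ a hX V₀ hV =>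
    K922.TreeSpread.spread D c hc h i₀ X₀ p₀ a hX V₀ hV) (fun K _ _ X p _ _ V => tree H K X p V) f V

end K153.TreeMain
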