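import Groth.Agent.EtAcyc.K153.TreeDef
import Groth.Agent.EtAcyc.K153.TreeCurve
import Groth.Agent.EtDl.K119.StageEv
import Groth.Prelude.Def_SSMod

/-!
# Plan: tree certificates in any characteristic (statements with `sorry`; never import this file in a proof)

Nodes of the proof of

  `exists_tree`: `S` integral Noetherian, `X ⟶ S` of finite type, `V` open in `X`. There is `S₁` integral Noetherian,
  `g : S₁ ⟶ S` dominant of finite type with `Tree S₁ (X ×_S S₁) (V ×_S S₁)`.
-/

set_option autoImplicit false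
universe u

open CategoryTheory CategoryTheory.Limits AlgebraicGeometry

namespace K153.Plan

open K153.TreeDef K153.TreeCurve K556.CertDef

/-- TREE-FIB. Fibration in curves after a finite cover. Algebra: `X = Spec R`, a separating transcendence basis
`x_0, …, x_d ∈ R`, `A₀ = K[x_1, …, x_d]`, `k = Frac A₀`, `A = R ⊗ k`; `K653.NormMain.exists_finset` (normalisation of
`(A ⊗ k')_red` smooth over `k'`, `k'/k` finite purely inseparable), S2514 for `D/(a)` (reduced quotient geometrically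
reduced = étale), `R'` = a finite `R`-subalgebra of the normalisation `D` with `R' ⊗ k' = D`, then shrink. -/
theorem fib {K : Type u} [Field K] [IsAlgClosed K] {X : Scheme.{u}} [IsIntegral X] [IsAffine X]
    (p : X ⟶ Spec (CommRingCat.of K)) [LocallyOfFiniteType p] (d : ℕ)
    (hd : topologicalKrullDim X = ((d + 1 : ℕ) : WithBot ℕ∞)) (V : X.Opens) (hV : (V : Set X).Nonempty) :
    ∃ (B X' D : Scheme.{u}) (_ : IsIntegral B) (_ : IsAffine B) (_ : IsIntegral X')
      (q : B ⟶ Spec (CommRingCat.of K)) (g : X' ⟶ X) (π : X' ⟶ B) (i : D ⟶ X') (U : B.Opens),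
      LocallyOfFiniteType q ∧ topologicalKrullDim B = (d : WithBot ℕ∞) ∧ IsFinite g ∧ Surjective g ∧
      π ≫ q = g ≫ p ∧ PreCurve π i U ∧ ∀ x : X', π x ∈ U → x ∉ Set.range i → g x ∈ V := sorry

/-- TREE-FLAT. Flattening by a blow-up: `S1273` (scheme form of Raynaud–Gruson, see also `K835.Flatten`) for `X` and
for the closure of `D ∩ π⁻¹ U`; over a blow-up both strict transforms are flat of finite presentation; pure relative
dimension `1` and `0` by the dimension formula (`X₂` integral and flat over `B₂`; every component of `D₂` dominates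
`B₂`). -/
theorem flat {K : Type u} [Field K] {B X D : Scheme.{u}} [IsIntegral B] [IsNoetherian B] [IsIntegral X]
    (q : B ⟶ Spec (CommRingCat.of K)) [LocallyOfFiniteType q] (π : X ⟶ B)
    [LocallyOfFiniteType π] [QuasiCompact π] (i : D ⟶ X) (U : B.Opens) (h : PreCurve π i U) :
    ∃ (B₂ X₂ D₂ : Scheme.{u}) (_ : IsIntegral B₂) (_ : IsIntegral X₂) (b : B₂ ⟶ B) (g : X₂ ⟶ X)
      (π₂ : X₂ ⟶ B₂) (i₂ : D₂ ⟶ X₂) (U₂ : B₂.Opens), IsProper b ∧ Surjective b ∧
      (∃ W : B.Opens, (W : Set B).Nonempty ∧ IsIso (b ∣_ W)) ∧ IsProper g ∧ Surjective g ∧ g ≫ π = π₂ ≫ b ∧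
      SSMod.IsMPCurve π₂ i₂ ∧ PreCurve π₂ i₂ U₂ ∧
      ∀ x : X₂, π₂ x ∈ U₂ → g x ∈ Set.range i → x ∈ Set.range i₂ := sorry

/-- TREE-SS. Semistable reduction: from `H15277`. -/
theorem ss (H : H15277.{u}) {B X D : Scheme.{u}} [IsIntegral B] [IsNoetherian B] [IsIntegral X] (π : X ⟶ B)
    (i : D ⟶ X) (hC : SSMod.IsMPCurve π i) (U : B.Opens) (h : PreCurve π i U) :
    ∃ (B₃ C D' : Scheme.{u}) (_ : IsIntegral B₃) (b : B₃ ⟶ B) (g : C ⟶ X) (π' : C ⟶ B₃) (i' : D' ⟶ C)
      (U₃ : B₃.Opens), IsProper b ∧ Surjective b ∧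
      (∃ W : B.Opens, (W : Set B).Nonempty ∧ IsFinite (b ∣_ W)) ∧ IsProper g ∧ Surjective g ∧ g ≫ π = π' ≫ b ∧
      SSMod.IsSemistable π' i' ∧ (U₃ : Set B₃).Nonempty ∧ Smooth (π' ∣_ U₃) ∧
      ∀ x : C, π' x ∈ U₃ → g x ∈ Set.range i → x ∈ Set.range i' := sorry

/-- TREE-DIM. Alterations of schemes of finite type over a field do not increase the dimension. -/
theorem dim_le {K : Type u} [Field K] {B B' : Scheme.{u}} [IsIntegral B] [IsIntegral B']
    (q : B ⟶ Spec (CommRingCat.of K)) [LocallyOfFiniteType q] (b : B' ⟶ B) [LocallyOfFiniteType b] [QuasiCompact b]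
    [IsDominant b] (W : B.Opens) (hW : (W : Set B).Nonempty) (hfin : IsFinite (b ∣_ W)) :
    topologicalKrullDim B' ≤ topologicalKrullDim B := sorry

/-- TREE-LOC (K153). Semistable curves over a regular base with a strict normal crossings family, smooth over the
complement. -/
theorem loc {R : Type u} [CommRing R] {ι : Type} [Finite ι] {z : ι → R} (h : SNC R z) {C D : Scheme.{u}}
    (π : C ⟶ Spec (CommRingCat.of R)) (i : D ⟶ C) (hss : SSMod.IsSemistable π i)
    (hsm : ∀ x : C, (∀ k, z k ∉ (π x).asIdeal) → x ∉ DualGr.nonsmoothPts π) (V : C.Opens)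
    (hV : ∀ x : C, (∀ k, z k ∉ (π x).asIdeal) → x ∉ Set.range i → x ∈ V) : STree C V := sorry

/-- TREE-CONV. Over an algebraically closed field: at the leaves `R` is smooth over `K`, `V(z_i)` smooth; locally
`V` is the locus where some of the étale coordinates are invertible, because the complement of `V` is a divisor
contained in `∏ z_i = 0` and the `z_i` are prime elements of the local rings (`K556.Mono.exists_away`). -/
theorem conv {K : Type u} [Field K] [IsAlgClosed K] {X : Scheme.{u}} {V : X.Opens} (h : STree X V)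
    (p : X ⟶ Spec (CommRingCat.of K)) [LocallyOfFiniteType p] (hV : LocPrinc V) :
    Tree (Spec (CommRingCat.of K)) X p V := sorry

/-- TREE-BLOW. Make the complement of `V` a divisor. -/
theorem blow {X : Scheme.{u}} [IsIntegral X] [IsNoetherian X] (V : X.Opens) (hV : (V : Set X).Nonempty) :
    ∃ (X₁ : Scheme.{u}) (_ : IsIntegral X₁) (b : X₁ ⟶ X), IsProper b ∧ Surjective b ∧ LocPrinc (b ⁻¹ᵁ V) ∧
      ((b ⁻¹ᵁ V : X₁.Opens) : Set X₁).Nonempty := sorry

/-- TREE-BC. Base change of relative certificates. -/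
theorem Tree.baseChange {T T' X X' : Scheme.{u}} {f : X ⟶ T} {V : X.Opens} (h : Tree T X f V) (t : T' ⟶ T)
    (f' : X' ⟶ T') (g : X' ⟶ X) (hX : IsPullback g f' f t) : Tree T' X' f' (g ⁻¹ᵁ V) := sorry

/-- TREE-SPREAD. Certificates over a limit come from a finite stage (compare `K119.CertStage`, tools
`K119.StageEv.{ev_etale, ev_proper, ev_section, ev_le}`). -/
theorem spread {I : Type u} [SmallCategory I] [IsCofiltered I] (D : I ⥤ Scheme.{u}) (c : Cone D)
    [∀ (i j : I) (f : i ⟶ j), IsAffineHom (D.map f)] [∀ i, IsAffine (D.obj i)] [∀ i, IsNoetherian (D.obj i)]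
    [IsAffine c.pt] [IsNoetherian c.pt] (hc : IsLimit c) {X : Scheme.{u}} {f : X ⟶ c.pt} {V : X.Opens}
    (h : Tree c.pt X f V) (i₀ : I) (X₀ : Scheme.{u}) (p₀ : X₀ ⟶ D.obj i₀) [LocallyOfFinitePresentation p₀]
    [QuasiCompact p₀] [QuasiSeparated p₀] (a : X ⟶ X₀) (hX : IsPullback a f p₀ (c.π.app i₀)) (V₀ : X₀.Opens)
    (hV : a ⁻¹ᵁ V₀ = V) :
    ∃ (i₁ : I) (φ : i₁ ⟶ i₀), ∀ (i : I) (ψ : i ⟶ i₁) (Xi : Scheme.{u}) (ai : Xi ⟶ X₀) (pi : Xi ⟶ D.obj i),
      IsPullback ai pi p₀ (D.map (ψ ≫ φ)) → Tree (D.obj i) Xi pi (ai ⁻¹ᵁ V₀) := sorry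

/-- TREE-END. The final form, from the case of an algebraically closed field and `spread` (`K` = algebraic closure
of the function field of `S`, the limit of the finitely generated subalgebras). -/
theorem exists_tree_of (hK : ∀ (K : Type u) [Field K] [IsAlgClosed K] (X : Scheme.{u})
      (p : X ⟶ Spec (CommRingCat.of K)) [LocallyOfFiniteType p] [QuasiCompact p] (V : X.Opens),
      Tree (Spec (CommRingCat.of K)) X p V)
    {S X : Scheme.{u}} [IsIntegral S] [IsNoetherian S] (f : X ⟶ S) [LocallyOfFiniteType f] [QuasiCompact f]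
    [QuasiSeparated f] (V : X.Opens) :
    ∃ (S₁ : Scheme.{u}) (_ : IsIntegral S₁) (_ : IsNoetherian S₁) (g : S₁ ⟶ S), IsDominant g ∧
      LocallyOfFiniteType g ∧ QuasiCompact g ∧
      Tree S₁ (pullback f g) (pullback.snd f g) (pullback.fst f g ⁻¹ᵁ V) := sorry

end K153.Plan
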